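import Mathlib
import Cfsg.Agent.Lib.LAE.CharP
import Cfsg.Agent.Lib.Coprime.Action
import Cfsg.Agent.Lib.Transfer.Frobenius
import Cfsg.Agent.Lib.FT3.Main

/-!
A commuting pair `z`, `u` of orders two and three whose joint centralizer is the cyclic group of
order six they generate: basic facts, and the Feit-Thompson description of a section `L / V`.
-/

set_option autoImplicit false
set_option linter.unusedSectionVars false

namespace CfsgLib.SC6

open Subgroup Cfsg CfsgLib.LAE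
open scoped commutatorElement MatrixGroups

variable {G : Type*} [Group G]

theorem mc {g x : G} : g ∈ centralizer ({x} : Set G) ↔ Commute g x :=
  mem_centralizer_singleton_iff

/-- `z` and `u` generate a self-centralizing cyclic group of order six -/
structure Hyp (z u : G) : Prop where
  oz : orderOf z = 2
  ou : orderOf u = 3
  comm : Commute z u
  cent : ∀ g, Commute g z → Commute g u → g ∈ zpowers z ⊔ zpowers u

theorem mem_zp2 {z g : G} (h : orderOf z = 2) : g ∈ zpowers z ↔ g = 1 ∨ g = z := by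
  have e : z ^ (2 : ℤ) = 1 := by
    have := pow_orderOf_eq_one z
    rw [h] at this
    exact_mod_cast this
  constructor
  · rintro ⟨k, rfl⟩
    rcases Int.even_or_odd' k with ⟨m, rfl | rfl⟩
    · left; show z ^ (2 * m) = 1; rw [zpow_mul, e, one_zpow]
    · right; show z ^ (2 * m + 1) = z; rw [zpow_add, zpow_mul, e, one_zpow, one_mul, zpow_one]
  · rintro (rfl | rfl)
    exacts [one_mem _, mem_zpowers _]

theorem mem_zp3 {u g : G} (h : orderOf u = 3) : g ∈ zpowers u ↔ g = 1 ∨ g = u ∨ g = u⁻¹ := by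
  have e : u ^ (3 : ℤ) = 1 := by
    have := pow_orderOf_eq_one u
    rw [h] at this
    exact_mod_cast this
  constructor
  · rintro ⟨k, rfl⟩
    obtain ⟨m, hm⟩ : ∃ m, k = 3 * m ∨ k = 3 * m + 1 ∨ k = 3 * m + -1 := ⟨(k + 1) / 3, by omega⟩
    rcases hm with rfl | rfl | rfl
    · left; show u ^ (3 * m) = 1; rw [zpow_mul, e, one_zpow]
    · right; left; show u ^ (3 * m + 1) = u
      rw [zpow_add, zpow_mul, e, one_zpow, one_mul, zpow_one]
    · right; right; show u ^ (3 * m + -1) = u⁻¹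
      rw [zpow_add, zpow_mul, e, one_zpow, one_mul, zpow_neg_one]
  · rintro (rfl | rfl | rfl)
    exacts [one_mem _, mem_zpowers _, inv_mem (mem_zpowers _)]

theorem eq_one_of_pows {g : G} {a b : ℕ} (hab : a.Coprime b) (ha : g ^ a = 1) (hb : g ^ b = 1) :
    g = 1 :=
  mem_bot.1 (mem_of_pow_mem_of_pow_mem hab (mem_bot.2 ha) (mem_bot.2 hb))

theorem two_pow_of_mem {V : Subgroup G} (hV : IsPGroup 2 V) {g : G} (hg : g ∈ V) :
    ∃ k, g ^ 2 ^ k = 1 := isPGroup_iff_forall_mem.1 hV g hg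

theorem not_mem_of_three {V : Subgroup G} (hV : IsPGroup 2 V) {c : G} (hc : orderOf c = 3) :
    c ∉ V := fun e => by
  obtain ⟨k, hk⟩ := two_pow_of_mem hV e
  have := eq_one_of_pows (a := 2 ^ k) (b := 3) (Nat.Coprime.pow_left _ (by norm_num)) hk
    (hc ▸ pow_orderOf_eq_one c)
  rw [this, orderOf_one] at hc
  omega

namespace Hyp

variable {z u : G} (h : Hyp z u)
include h

theorem zz : z * z = 1 := by rw [← pow_two, ← h.oz, pow_orderOf_eq_one]

theorem z_inv : z⁻¹ = z := inv_eq_of_mul_eq_one_right h.zz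

theorem z_ne : z ≠ 1 := fun e => by have := h.oz; rw [e, orderOf_one] at this; omega

theorem u_ne : u ≠ 1 := fun e => by have := h.ou; rw [e, orderOf_one] at this; omega

theorem u3 : u ^ 3 = 1 := h.ou ▸ pow_orderOf_eq_one u

theorem uuu : u * u * u = 1 := by rw [← h.u3, pow_succ, pow_two]

theorem u_inv : u⁻¹ = u * u := inv_eq_of_mul_eq_one_left h.uuu

theorem mem_z {g : G} : g ∈ zpowers z ↔ g = 1 ∨ g = z := mem_zp2 h.oz

theorem mem_u {g : G} : g ∈ zpowers u ↔ g = 1 ∨ g = u ∨ g = u⁻¹ := mem_zp3 h.ou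

theorem card_z : Nat.card (zpowers z) = 2 := by rw [Nat.card_zpowers, h.oz]

theorem card_u : Nat.card (zpowers u) = 3 := by rw [Nat.card_zpowers, h.ou]

theorem pg_z : IsPGroup 2 (zpowers z) := IsPGroup.of_card (n := 1) h.card_z

theorem pg_u : IsPGroup 3 (zpowers u) := IsPGroup.of_card (n := 1) h.card_u

theorem norm_z {g : G} (hg : Commute g z) : g ∈ normalizer (zpowers z : Set G) :=
  centralizer_le_normalizer _ (by
    rw [mem_centralizer_iff]
    rintro _ ⟨k, rfl⟩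
    exact (hg.zpow_right k).symm)

theorem cent' {g : G} (h1 : Commute g z) (h2 : Commute g u) :
    ∃ a ∈ zpowers z, ∃ b ∈ zpowers u, g = a * b :=
  (mem_sup_iff_of_right_le_normalizer (zpowers_le.2 (h.norm_z h.comm.symm))).1 (h.cent g h1 h2)

theorem comm_zu {a b : G} (ha : a ∈ zpowers z) (hb : b ∈ zpowers u) : Commute a b := by
  obtain ⟨i, rfl⟩ := ha
  obtain ⟨j, rfl⟩ := hb
  exact h.comm.zpow_zpow i j

theorem two {g : G} (h1 : Commute g z) (h2 : Commute g u) (hg : ∃ k, g ^ 2 ^ k = 1) :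
    g ∈ zpowers z := by
  obtain ⟨a, ha, b, hb, rfl⟩ := h.cent' h1 h2
  obtain ⟨k, hk⟩ := hg
  have ha2 : a ^ 2 = 1 := by rcases h.mem_z.1 ha with rfl | rfl <;> simp [pow_two, h.zz]
  have hb3 : b ^ 3 = 1 := by rcases h.mem_u.1 hb with rfl | rfl | rfl <;> simp [h.u3]
  have : b ^ (2 ^ k * 2) = 1 := by
    have e : (a * b) ^ (2 ^ k * 2) = 1 := by rw [pow_mul, hk, one_pow]
    rwa [(h.comm_zu ha hb).mul_pow, mul_comm (2 ^ k), pow_mul a, ha2, one_pow, one_mul,
      mul_comm 2] at e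
  rw [eq_one_of_pows (by rw [← pow_succ]; exact Nat.Coprime.pow_left _ (by norm_num)) this hb3,
    mul_one]
  exact ha

theorem three {g : G} (h1 : Commute g z) (h2 : Commute g u) (hg : ∃ k, g ^ 3 ^ k = 1) :
    g ∈ zpowers u := by
  obtain ⟨a, ha, b, hb, rfl⟩ := h.cent' h1 h2
  obtain ⟨k, hk⟩ := hg
  have ha2 : a ^ 2 = 1 := by rcases h.mem_z.1 ha with rfl | rfl <;> simp [pow_two, h.zz]
  have hb3 : b ^ 3 = 1 := by rcases h.mem_u.1 hb with rfl | rfl | rfl <;> simp [h.u3]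
  have : a ^ (3 ^ k * 3) = 1 := by
    have e : (a * b) ^ (3 ^ k * 3) = 1 := by rw [pow_mul, hk, one_pow]
    rwa [(h.comm_zu ha hb).mul_pow, mul_comm (3 ^ k), pow_mul b, hb3, one_pow, mul_one,
      mul_comm 3] at e
  rw [eq_one_of_pows (by rw [← pow_succ]; exact Nat.Coprime.pow_left _ (by norm_num)) this ha2,
    one_mul]
  exact hb

theorem map {G' : Type*} [Group G'] (e : G ≃* G') : Hyp (e z) (e u) where
  oz := by rw [e.orderOf_eq, h.oz]
  ou := by rw [e.orderOf_eq, h.ou]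
  comm := h.comm.map e
  cent g h1 h2 := by
    obtain ⟨g, rfl⟩ := e.surjective g
    obtain ⟨a, ⟨i, rfl⟩, b, ⟨j, rfl⟩, rfl⟩ :=
      h.cent' (g := g) (h1.of_map e.injective) (h2.of_map e.injective)
    rw [map_mul]
    exact mul_mem (mem_sup_left ⟨i, by simp⟩) (mem_sup_right ⟨j, by simp⟩)

theorem conj (g : G) : Hyp (g * z * g⁻¹) (g * u * g⁻¹) := h.map (MulAut.conj g)

theorem inv : Hyp z u⁻¹ where
  oz := h.oz
  ou := by rw [orderOf_inv, h.ou]
  comm := h.comm.inv_right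
  cent g h1 h2 := by rw [zpowers_inv]; exact h.cent g h1 (Commute.inv_right_iff.1 h2)

variable [Finite G] {V L : Subgroup G}

theorem fix (hV : IsPGroup 2 V) (hz : z ∈ V) : V ⊓ centralizer {u} = zpowers z := by
  have := Fact.mk Nat.prime_two
  have h0 : IsPGroup 2 (V ⊓ centralizer {u} : Subgroup G) := hV.to_inf_left
  have hz0 : z ∈ V ⊓ centralizer {u} := ⟨hz, mc.2 h.comm⟩
  obtain ⟨w, ⟨hw, hwc⟩, hw1⟩ := (bot_or_exists_ne_one _).resolve_left
    (inf_centralizer_ne_bot h0 h0 le_normalizer fun e => h.z_ne (mem_bot.1 (e ▸ hz0)))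
  have e := (h.mem_z.1 (h.two (mem_centralizer_iff.1 hwc z hz0).symm (mc.1 hw.2)
    (two_pow_of_mem hV hw.1))).resolve_left hw1
  subst e
  exact le_antisymm (fun g hg => h.two (mem_centralizer_iff.1 hwc g hg) (mc.1 hg.2)
    (two_pow_of_mem hV hg.1)) (zpowers_le.2 hz0)

theorem mem_fix (hV : IsPGroup 2 V) (hz : z ∈ V) {g : G} (hg : g ∈ V) (hc : Commute g u) :
    g ∈ zpowers z := h.fix hV hz ▸ ⟨hg, mc.2 hc⟩

theorem card_mod (hV : IsPGroup 2 V) (hz : z ∈ V) (hu : u ∈ normalizer (V : Set G)) :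
    Nat.card V % 3 = 2 := by
  have := Fact.mk Nat.prime_three
  have e := Transfer.card_modEq_card_inf_centralizer (q := 3) hu ⟨1, h.u3⟩
  rw [h.fix hV hz, h.card_z] at e
  exact e

theorem centL (hV : IsPGroup 2 V) (hz : z ∈ V) {g : G} (hg : g ∈ normalizer (V : Set G))
    (hc : Commute g u) : Commute g z := by
  have e : Commute (g * z * g⁻¹) u := (hc.mul_left h.comm).mul_left hc.inv_left
  rcases h.mem_z.1 (h.mem_fix hV hz (conj_mem_of_mem_normalizer hg hz) e) with e | e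
  · exact absurd (conj_eq_one_iff.1 e) h.z_ne
  · exact mul_inv_eq_iff_eq_mul.1 e

theorem sylow3 (hV : IsPGroup 2 V) (hz : z ∈ V) (hL : L ≤ normalizer (V : Set G)) (hu : u ∈ L) :
    IsSylowIn 3 (zpowers u) L := by
  have := Fact.mk Nat.prime_three
  refine ⟨zpowers_le.2 hu, h.pg_u, fun S hS h1 h2 => le_antisymm ?_ h1⟩
  have k : ∀ g ∈ S, Commute g u → g ∈ zpowers u := fun g hg hc =>
    h.three (h.centL hV hz (hL (h2 hg)) hc) hc (isPGroup_iff_forall_mem.1 hS g hg)
  have hu0 := h1 (mem_zpowers u)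
  obtain ⟨w, ⟨hw, hwc⟩, hw1⟩ := (bot_or_exists_ne_one _).resolve_left
    (inf_centralizer_ne_bot hS hS le_normalizer fun e => h.u_ne (mem_bot.1 (e ▸ hu0)))
  intro g hg
  have e : Commute g w := mem_centralizer_iff.1 hwc g hg
  rcases h.mem_u.1 (k w hw (mem_centralizer_iff.1 hwc u hu0).symm) with rfl | rfl | rfl
  exacts [absurd rfl hw1, k g hg e, k g hg (Commute.inv_right_iff.1 e)]

theorem conj3 (hV : IsPGroup 2 V) (hz : z ∈ V) (hL : L ≤ normalizer (V : Set G)) (hu : u ∈ L)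
    {c : G} (hc : c ∈ L) (ho : orderOf c = 3) :
    ∃ g ∈ L, g * z * g⁻¹ ∈ V ∧ Hyp (g * z * g⁻¹) c := by
  have := Fact.mk Nat.prime_three
  obtain ⟨g, hg, e⟩ := (h.sylow3 hV hz hL hu).exists_le_conj
    (IsPGroup.of_card (n := 1) (by rw [Nat.card_zpowers, ho]; rfl)) (zpowers_le.2 hc)
  refine ⟨g, hg, conj_mem_of_mem_normalizer (hL hg) hz, ?_⟩
  obtain ⟨y, hy, rfl⟩ := exists_of_mem_conjS (e (mem_zpowers c))
  rcases h.mem_u.1 hy with rfl | rfl | rfl
  · simp at ho
  exacts [h.conj g, h.inv.conj g]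

theorem conj3z {c : G} (hc : Commute c z) (ho : orderOf c = 3) : Hyp z c := by
  obtain ⟨g, hg, -, e⟩ := h.conj3 h.pg_z (mem_zpowers z) (L := centralizer {z})
    (fun g hg => h.norm_z (mc.1 hg)) (mc.2 h.comm.symm) (mc.2 hc) ho
  rwa [(mc.1 hg).eq, mul_inv_cancel_right] at e

end Hyp

end CfsgLib.SC6
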