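import Mathlib
import Cfsg.Agent.Lib.SC6.Base
import Cfsg.Agent.Lib.Core.Fitting
import Cfsg.Agent.Lib.Coprime.SchurZassenhaus
import Cfsg.Agent.Lib.Mit.TrPSL
import Cfsg.Agent.Lib.Dickson.MinSimple

/-!
The Feit-Thompson theorem on self-centralizing subgroups of order three, for a section `L / V`.
-/

set_option autoImplicit false
set_option linter.unusedSectionVars false

namespace CfsgLib.SC6

open Subgroup Cfsg CfsgLib.LAE
open scoped commutatorElement MatrixGroups

variable {G : Type*} [Group G]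

/-- `L / N ≅ Y` -/
def Quo (L N : Subgroup G) (Y : Type*) [Group Y] : Prop :=
  ∃ φ : L →* Y, Function.Surjective φ ∧ φ.ker = N.subgroupOf L

theorem Quo.relIndex {L N : Subgroup G} {Y : Type*} [Group Y] (h : Quo L N Y) :
    N.relIndex L = Nat.card Y := by
  obtain ⟨φ, h1, h2⟩ := h
  rw [Subgroup.relIndex, ← h2, index_ker, MonoidHom.range_eq_top.2 h1, card_top]

theorem Quo.norm {L N : Subgroup G} {Y : Type*} [Group Y] (h : Quo L N Y) (hN : N ≤ L) :
    L ≤ normalizer (N : Set G) := by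
  obtain ⟨φ, -, h2⟩ := h
  have := le_normalizer_map_subtype φ.ker
  rwa [h2, map_subgroupOf_eq_of_le hN] at this

/-- `N / V` is a nilpotent normal `3'`-subgroup of the solvable group `L / V` -/
structure Nil (V N L : Subgroup G) : Prop where
  le : V ≤ N
  le' : N ≤ L
  norm : L ≤ normalizer (N : Set G)
  cop : ∀ a ∈ N, ∀ b ∈ N, (orderOf a).Coprime (orderOf b) → ⁅a, b⁆ ∈ V
  three : ¬ 3 ∣ Nat.card N
  solv : Group.IsSolvable L

theorem card_rel {A B : Subgroup G} (h : A ≤ B) : Nat.card A * A.relIndex B = Nat.card B := by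
  rw [← relIndex_bot_left, ← relIndex_bot_left, relIndex_mul_relIndex _ _ _ bot_le h]

theorem idx2_norm {A B : Subgroup G} (h : A ≤ B) (h2 : A.relIndex B = 2) :
    B ≤ normalizer (A : Set G) := by
  have := le_normalizer_map_subtype (hN := normal_of_index_eq_two h2)
  rwa [map_subgroupOf_eq_of_le h] at this

theorem simple7 : IsSimpleGroup PSL(2, ZMod 7) :=
  have : Fact (Nat.Prime 7) := ⟨by norm_num⟩
  Dickson.psl_isSimpleGroup (by simp)

theorem card7 : Nat.card PSL(2, ZMod 7) = 168 := Mit.Tr.card7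

theorem cardA5 : Nat.card (alternatingGroup (Fin 5)) = 60 := by
  rw [nat_card_alternatingGroup]; simp; rfl

theorem cardS3 : Nat.card (Equiv.Perm (Fin 3)) = 6 := by
  rw [Nat.card_perm]; simp; rfl

variable [Finite G]

theorem exists_order {p : ℕ} (hp : p.Prime) {H : Subgroup G} (h : p ∣ Nat.card H) :
    ∃ c ∈ H, orderOf c = p := by
  have := Fact.mk hp
  obtain ⟨c, hc⟩ := exists_prime_orderOf_dvd_card' p h
  exact ⟨c, c.2, by rw [← hc, Subgroup.orderOf_coe]⟩

variable {z u : G} {V N L T : Subgroup G}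

theorem Hyp.ft (h : Hyp z u) (hV : IsPGroup 2 V) (hz : z ∈ V) (hVL : V ≤ L)
    (hL : L ≤ normalizer (V : Set G)) (hu : u ∈ L) :
    (∃ N, Nil V N L ∧ (N.relIndex L = 3 ∨ Quo L N (Equiv.Perm (Fin 3)))) ∨
    (∃ N, V ≤ N ∧ N ≤ L ∧ IsPGroup 2 N ∧ Quo L N (alternatingGroup (Fin 5))) ∨
    Quo L V PSL(2, ZMod 7) := by
  have := Fact.mk Nat.prime_two
  have := Fact.mk Nat.prime_three
  have := normal_subgroupOf_of_le hL
  have hV' : IsPGroup 2 (V.subgroupOf L) := (isPGroup_subgroupOf_iff hVL).2 hV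
  set π := QuotientGroup.mk' (V.subgroupOf L) with hπ
  have hk : ∀ x : L, π x = 1 ↔ (x : G) ∈ V := fun x => QuotientGroup.eq_one_iff x
  have hs : Function.Surjective π := QuotientGroup.mk'_surjective _
  have o3 : ∀ c : L, orderOf (c : G) = 3 → orderOf (π c) = 3 := fun c hc =>
    orderOf_eq_prime (by
      rw [← map_pow, ← hc, Subgroup.orderOf_coe, pow_orderOf_eq_one, map_one])
      fun e => not_mem_of_three hV hc ((hk c).1 e)
  have hsc : DefectOne.B43.SC 3 (π ⟨u, hu⟩) := ⟨Nat.prime_three, o3 _ h.ou, by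
    refine le_antisymm (fun y hy => ?_) (zpowers_le.2 (mc.2 (Commute.refl _)))
    obtain ⟨n, hn⟩ := hV'.exists_card_eq
    have e := Coprime.map_centralizer_quotient (V.subgroupOf L) (A := zpowers (⟨u, hu⟩ : L))
      (by
        rw [Nat.card_zpowers, ← Subgroup.orderOf_coe, h.ou, hn]
        exact Nat.Coprime.pow_right _ (by norm_num)) (Or.inl (Coprime.isSolvable_zpowers _))
    rw [MonoidHom.map_zpowers, zpowers_eq_closure, zpowers_eq_closure, centralizer_closure,
      centralizer_closure] at e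
    obtain ⟨g, hg, rfl⟩ : y ∈ _ := e.ge hy
    have hc : Commute (g : G) u := congrArg Subtype.val (mc.1 hg).eq
    obtain ⟨a, ha, b, ⟨j, rfl⟩, e⟩ := h.cent' (h.centL hV hz (hL g.2) hc) hc
    have ha' := zpowers_le.2 hz ha
    rw [show g = ⟨a, hVL ha'⟩ * ⟨u, hu⟩ ^ j from Subtype.ext e, map_mul,
      (hk ⟨a, hVL ha'⟩).2 ha', one_mul, map_zpow]
    exact zpow_mem (mem_zpowers _) j⟩
  have sub : ∀ M : Subgroup (L ⧸ V.subgroupOf L),
      ((M.comap π).map L.subtype).subgroupOf L = M.comap π := fun M =>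
    comap_map_eq_self_of_injective L.subtype_injective _
  have hle : ∀ M : Subgroup (L ⧸ V.subgroupOf L), V ≤ (M.comap π).map L.subtype := fun M v hv =>
    ⟨⟨v, hVL hv⟩, show π _ ∈ M by rw [(hk _).2 hv]; exact one_mem _, rfl⟩
  have quo : ∀ (M : Subgroup (L ⧸ V.subgroupOf L)) [M.Normal] (Y : Type) [Group Y],
      ((L ⧸ V.subgroupOf L) ⧸ M ≃* Y) → Quo L ((M.comap π).map L.subtype) Y := fun M _ Y _ e =>
    ⟨(e.toMonoidHom.comp (QuotientGroup.mk' M)).comp π,
      (e.surjective.comp (QuotientGroup.mk'_surjective M)).comp hs, by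
        rw [sub]; ext x; simp⟩
  rcases FT3.feit_thompson_three hsc with ⟨M, _, h1, h2, h3⟩ | ⟨M, _, -, h2, ⟨e⟩⟩ | ⟨⟨e⟩⟩
  · refine Or.inl ⟨_, ⟨hle M, map_subtype_le _, le_normalizer_map_subtype _, ?_, fun e => ?_, ?_⟩,
      h3.imp (fun e => ?_) fun ⟨e⟩ => quo M _ e⟩
    · rintro _ ⟨a, ha, rfl⟩ _ ⟨b, hb, rfl⟩ hab
      have := Core.commute_of_coprime_orderOf_of_isNilpotent (x := (⟨π a, ha⟩ : M))
        (y := ⟨π b, hb⟩) (by
          rw [← Subgroup.orderOf_coe, ← Subgroup.orderOf_coe]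
          simp only [coe_subtype, Subgroup.orderOf_coe] at hab
          exact (hab.coprime_dvd_left (orderOf_map_dvd π a)).coprime_dvd_right (orderOf_map_dvd π b))
      have e : π ⁅a, b⁆ = 1 := by
        rw [map_commutatorElement, commutatorElement_eq_one_iff_mul_comm]
        exact congrArg Subtype.val this.eq
      exact (hk _).1 e
    · obtain ⟨_, ⟨c, hc, rfl⟩, ho⟩ := exists_order Nat.prime_three e
      have := M.orderOf_dvd_natCard hc
      rw [o3 c ho] at this
      exact absurd (h2.symm.eq_one_of_dvd this) (by norm_num)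
    · have hq : Squarefree (Nat.card ((L ⧸ V.subgroupOf L) ⧸ M)) := by
        rcases h3 with e | ⟨⟨e⟩⟩
        · rw [e]; exact Nat.prime_three.prime.squarefree
        · rw [Nat.card_congr e.toEquiv, cardS3]; decide +kernel
      have := IsZGroup.of_squarefree hq
      refine (Group.isSolvable_iff_subgroup_quotient (V.subgroupOf L)).2
        ⟨Coprime.isSolvable_of_isPGroup hV', (Group.isSolvable_iff_subgroup_quotient M).2
          ⟨inferInstance, inferInstance⟩⟩
    · rw [Subgroup.relIndex, sub, index_comap_of_surjective _ hs, ← e]; rfl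
  · refine Or.inr (Or.inl ⟨_, hle M, map_subtype_le _, isPGroup_iff_forall_mem.2 ?_, quo M _ e⟩)
    rintro _ ⟨a, ha, rfl⟩
    obtain ⟨k, hk'⟩ := two_pow_of_mem hV ((hk (a ^ 2)).1 (by rw [map_pow]; exact h2 _ ha))
    exact ⟨k + 1, by rw [pow_succ', pow_mul]; exact hk'⟩
  · exact Or.inr (Or.inr ⟨e.toMonoidHom.comp π, e.surjective.comp hs, by
      ext x; simp [hk, mem_subgroupOf]⟩)

theorem Nil.sylow (h : Nil V N L) {S : Subgroup G} (hS : IsSylowIn 2 S N) (hV : V ≤ S) :
    L ≤ normalizer (S : Set G) := by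
  have := Fact.mk Nat.prime_two
  have hN : N ≤ normalizer (S : Set G) :=
    hS.le_of_pResOf_le (pResOf_le_iff.2 fun a ha hc => mem_normalizer_of_conjS_le
      (conjS_le_iff_forall.2 fun s hs => by
        obtain ⟨k, hk⟩ := two_pow_of_mem hS.isPGroup hs
        have := h.cop a ha s (hS.le hs)
          ((hc.pow_right k).coprime_dvd_right (orderOf_dvd_of_pow_eq_one hk))
        simpa [commutatorElement_def] using mul_mem (hV this) hs)) le_normalizer
  exact fun g hg => mem_normalizer_iff_conjS.2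
    (hS.eq_of_normal (hS.conj_of_mem_normalizer (h.norm hg)) hN)

theorem relIndex_dvd {N L T : Subgroup G} (hn : L ≤ normalizer (N : Set G))
    (hT : T ≤ L) : N.relIndex T ∣ N.relIndex L := by
  have := normal_subgroupOf_of_le hn
  rw [← relIndex_subgroupOf hT]
  exact relIndex_dvd_index_of_normal _ _

theorem relIndex_pow {N T : Subgroup G} (hT : IsPGroup 2 T) : ∃ k, N.relIndex T = 2 ^ k :=
  have := Fact.mk Nat.prime_two
  hT.index _

theorem pow_dvd_of_odd {k a b : ℕ} (h : 2 ^ k ∣ a * b) (hb : Odd b) : 2 ^ k ∣ a :=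
  (Nat.Coprime.pow_left _ (Nat.coprime_two_left.2 hb)).dvd_of_dvd_mul_right h

/-- the index of `O₂(L)` in a Sylow subgroup divides four, or `L / V ≅ L₂(7)` -/
theorem Hyp.ft' (h : Hyp z u) (hV : IsPGroup 2 V) (hz : z ∈ V) (hT : IsSylowIn 2 T L) (hVT : V ≤ T)
    (hL : L ≤ normalizer (V : Set G)) (hu : u ∈ L) :
    (pCoreOf 2 L).relIndex T ∣ 4 ∨ Quo L V PSL(2, ZMod 7) := by
  have := Fact.mk Nat.prime_two
  rcases h.ft hV hz (hVT.trans hT.le) hL hu with ⟨N, h1, h2⟩ | ⟨N, -, h1, h2, h3⟩ | h1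
  · have hS := hT.inf_of_normal h1.le' h1.norm
    have e := relIndex_dvd_of_le_left T (le_pCoreOf hS.isPGroup (hS.le.trans h1.le')
      (h1.sylow hS (le_inf hVT h1.le)))
    rw [inf_relIndex_left] at e
    refine Or.inl (e.trans ?_)
    have e1 := relIndex_dvd h1.norm hT.le
    obtain ⟨k, hk⟩ := relIndex_pow (N := N) hT.isPGroup
    rw [hk] at e1 ⊢
    refine pow_dvd_of_odd (b := 3) (e1.trans ?_) (by decide)
    rcases h2 with e | e
    · rw [e]; norm_num
    · rw [e.relIndex, cardS3]; norm_num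
  · have e := relIndex_dvd_of_le_left T (le_pCoreOf h2 h1 (h3.norm h1))
    refine Or.inl (e.trans ?_)
    have e1 := relIndex_dvd (h3.norm h1) hT.le
    obtain ⟨k, hk⟩ := relIndex_pow (N := N) hT.isPGroup
    rw [hk] at e1 ⊢
    rw [h3.relIndex, cardA5] at e1
    exact pow_dvd_of_odd (b := 15) e1 (by decide)
  · exact Or.inr h1

end CfsgLib.SC6
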