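import Mathlib
import Cfsg.Agent.Lib.SC6.FT
import Cfsg.Agent.Lib.Gam.Main
import Cfsg.Agent.Lib.CGT2.Ste

/-!
Minimal parabolics with quotient `S₃`: construction, pushing up, and the second parabolic.
-/

set_option autoImplicit false
set_option linter.unusedSectionVars false

namespace CfsgLib.SC6

open Subgroup Cfsg CfsgLib.LAE CfsgLib.Gam
open scoped commutatorElement MatrixGroups

variable {G : Type*} [Group G] [Finite G] {A B T X Y : Subgroup G} {z u s : G}

theorem idx2_mul (h2 : A.relIndex B = 2) {a b : G} (ha : a ∈ B) (hb : b ∈ B) :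
    a * b ∈ A ↔ (a ∈ A ↔ b ∈ A) :=
  mul_mem_iff_of_index_two (H := A.subgroupOf B) h2 (a := ⟨a, ha⟩) (b := ⟨b, hb⟩)

theorem idx2_cases (h2 : A.relIndex B = 2) (h1 : A ≤ Y) (h3 : Y ≤ B) : Y = A ∨ Y = B := by
  have e := relIndex_mul_relIndex _ _ _ h1 h3
  rw [h2] at e
  rcases (Nat.dvd_prime Nat.prime_two).1 (Dvd.intro _ e) with e1 | e1
  · exact Or.inl (le_antisymm (relIndex_eq_one.1 e1) h1)
  · exact Or.inr (le_antisymm h3 (relIndex_eq_one.1 (by rw [e1] at e; omega)))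

theorem card_pos' (A : Subgroup G) : 0 < Nat.card A := Nat.card_pos

theorem build {T0 : Subgroup G} {c x : G} (hT : IsPGroup 2 T) (h0 : T0 ≤ T)
    (h2 : T0.relIndex T = 2) (hc : orderOf c = 3) (hn : c ∈ normalizer (T0 : Set G)) (hx : x ∈ T)
    (hx0 : x ∉ T0) (hi : x * c * x⁻¹ * c ∈ T0) :
    SLoc (T ⊔ zpowers c) T ∧ pCoreOf 2 (T ⊔ zpowers c) = T0 := by
  have := Fact.mk Nat.prime_two
  have hT0 := hT.to_le h0
  have nT := idx2_norm h0 h2
  have e1 := Coprime.card_sup_mul_card_inf (zpowers_le.2 hn)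
  rw [show T0 ⊓ zpowers c = ⊥ from eq_bot_iff.2 fun g hg => by
    rcases (mem_zp3 hc).1 hg.2 with rfl | rfl | rfl
    exacts [one_mem _, absurd hg.1 (not_mem_of_three hT0 hc),
      absurd (T0.inv_mem_iff.1 hg.1) (not_mem_of_three hT0 hc)], card_bot, Nat.card_zpowers, hc] at e1
  have nK : T ≤ normalizer ((T0 ⊔ zpowers c : Subgroup G) : Set G) := fun t ht => by
    have hx' : x ∈ normalizer ((T0 ⊔ zpowers c : Subgroup G) : Set G) :=
      mem_normalizer_of_conjS_le (by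
        rw [conjS_sup, mem_normalizer_iff_conjS.1 (nT hx), conjS_def, MonoidHom.map_zpowers]
        refine sup_le le_sup_left (zpowers_le.2 ?_)
        simpa using mul_mem (mem_sup_left hi) (mem_sup_right (inv_mem (mem_zpowers c))))
    by_cases e : t ∈ T0
    · exact le_normalizer (mem_sup_left e)
    · simpa using mul_mem (le_normalizer (mem_sup_left ((idx2_mul h2 ht (inv_mem hx)).2
        (iff_of_false e (mt inv_mem_iff.1 hx0))))) hx'
  have r1 := card_rel (le_sup_left : T0 ≤ T0 ⊔ zpowers c)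
  have p0 := card_pos' T0
  have e2 := Coprime.card_sup_mul_card_inf nK
  rw [(isSylowIn_of_not_dvd_relIndex le_sup_left hT0 (by
    rw [Nat.eq_of_mul_eq_mul_left p0 (r1.trans (by omega) : _ = Nat.card T0 * 3)]
    norm_num)).eq_of_le _ hT.to_inf_right (le_inf le_sup_left h0) inf_le_left,
    sup_comm, ← sup_assoc, sup_eq_left.2 h0] at e2
  have r2 := card_rel (le_sup_left : T ≤ T ⊔ zpowers c)
  have i3 : T.relIndex (T ⊔ zpowers c) = 3 :=
    Nat.eq_of_mul_eq_mul_left (card_pos' T) (r2.trans (Nat.eq_of_mul_eq_mul_right p0 (by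
      rw [e2, mul_one] at *; rw [e1]; ring)))
  have hS : IsSylowIn 2 T (T ⊔ zpowers c) :=
    isSylowIn_of_not_dvd_relIndex le_sup_left hT (by rw [i3]; norm_num)
  have hQ : pCoreOf 2 (T ⊔ zpowers c) = T0 :=
    (idx2_cases h2 (le_pCoreOf hT0 (h0.trans le_sup_left) (sup_le nT (zpowers_le.2 hn)))
      hS.pCoreOf_le).resolve_right fun e => by
        have h3 := le_normalizer_pCoreOf (p := 2) (T ⊔ zpowers c) (mem_sup_right (mem_zpowers c))
        rw [e] at h3
        have h4 : c * c ∈ T := by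
          simpa [mul_assoc] using mul_mem (inv_mem (conj_mem_of_mem_normalizer h3 (inv_mem hx)))
            (mul_mem (inv_mem hx) (h0 hi))
        have h5 : c * c * (c * c) = c := by
          rw [← mul_assoc, ← pow_two, ← pow_succ, show 2 + 1 = orderOf c from hc.symm,
            pow_orderOf_eq_one, one_mul]
        exact not_mem_of_three hT hc (h5 ▸ mul_mem h4 h4)
  exact ⟨⟨inferInstance, hS, by rw [hQ, h2], i3⟩, hQ⟩

theorem minOver (h : SLoc X T) : LocStr.MinOver T X T where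
  le := le_rfl
  lt := lt_of_le_of_ne h.syl.le fun e => by have := h.idx3; rw [e, relIndex_self] at this; omega
  max Y h1 h2 g hg := by_contra fun e => h2.not_ge (h.le_of_max (h2.le hg) e h1 hg)
  gen N h1 h2 h3 := by_contra fun e => by
    have e1 : N = T := le_antisymm (fun g hg => by_contra fun e' =>
      e (h.le_of_max (h2 hg) e' h1 hg)) h1
    have := relIndex_eq_one.2 (le_pCoreOf h.syl.isPGroup h.syl.le (e1 ▸ h3))
    rw [h.idx2] at this
    omega

theorem ste (hT : IsSylowIn 2 T ⊤) (h : SLoc X T) (hc : IsCharP 2 X) :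
    ∃ Y ≤ T, Y ≠ ⊥ ∧ normalizer (T : Set G) ≤ normalizer (Y : Set G) ∧
      X ≤ normalizer (Y : Set G) := by
  have := Fact.mk Nat.prime_two
  refine CGT2.stellmacher hc h.syl (minOver h) le_rfl le_normalizer fun n hn =>
    ⟨T.relIndex (normalizer (T : Set G)), ?_, mem_sup_left ?_⟩
  · exact Nat.odd_iff.2 (Nat.two_dvd_ne_zero.1 (hT.mono le_normalizer le_top).not_dvd_relIndex)
  · have := normal_subgroupOf_of_le (le_refl (normalizer (T : Set G)))
    exact pow_index_mem (T.subgroupOf (normalizer (T : Set G))) ⟨n, hn⟩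

theorem sLoc_sub {H : Subgroup G} (h : SLoc X T) (hM : X ≤ H) :
    SLoc (X.subgroupOf H) (T.subgroupOf H) :=
  ⟨inferInstance, h.syl.subgroupOf hM,
    by rw [pCoreOf_subgroupOf_of_le hM, relIndex_subgroupOf (h.syl.le.trans hM), h.idx2],
    by rw [relIndex_subgroupOf hM, h.idx3]⟩

theorem gold (hA : SLoc A T) (hB : SLoc B T) (hAB : A ⊓ B = T)
    (hc : ∀ N ≤ T, A ≤ normalizer (N : Set G) → B ≤ normalizer (N : Set G) → N = ⊥) :
    Nat.card T ≤ 128 := by
  subst hAB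
  have h3 := Edge.bound (A := A.subgroupOf (A ⊔ B)) (B := B.subgroupOf (A ⊔ B))
    ⟨⟨by rw [← subgroupOf_sup le_sup_left le_sup_right, subgroupOf_self], fun N hN hn => by
      have h4 := le_normalizer_map_subtype N
      rw [← Subgroup.map_eq_bot_iff_of_injective _ (A ⊔ B).subtype_injective]
      exact hc _ (map_le_iff_le_comap.2 hN) (le_sup_left.trans h4) (le_sup_right.trans h4)⟩,
      sLoc_sub hA le_sup_left, sLoc_sub hB le_sup_right⟩
  rwa [← Nat.card_congr (subgroupOfEquivOfLe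
    (inf_le_left.trans le_sup_left : A ⊓ B ≤ A ⊔ B)).toEquiv]

theorem burn (hT : IsSylowIn 2 T ⊤) {v : G} (hz : z ∈ centralizer (T : Set G))
    (hv : v ∈ centralizer (T : Set G)) (h : IsConj z v) :
    ∃ n ∈ normalizer (T : Set G), n * z * n⁻¹ = v := by
  have := Fact.mk Nat.prime_two
  obtain ⟨P, rfl⟩ := hT.exists_sylow_top
  obtain ⟨g, rfl⟩ := isConj_iff.1 h
  obtain ⟨n, hn, e⟩ := P.conj_eq_normalizer_conj_of_mem_centralizer z g⁻¹ hz (by simpa using hv)
  exact ⟨n⁻¹, inv_mem hn, by simpa using e.symm⟩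

theorem exists_inv (hT : IsPGroup 2 T) (h1 : Y ≤ T) (h2 : Y ≠ ⊥) (h3 : T ≤ normalizer (Y : Set G)) :
    ∃ v ∈ Y, orderOf v = 2 ∧ v ∈ centralizer (T : Set G) := by
  have := Fact.mk Nat.prime_two
  have hY := hT.to_le h1
  obtain ⟨v, hv, ho⟩ := exists_order Nat.prime_two
    ((hY.to_inf_left (K := centralizer (T : Set G))).card_eq_or_dvd.resolve_left
      (mt card_eq_one.1 (inf_centralizer_ne_bot hY hT h3 h2)))
  exact ⟨v, hv.1, ho, hv.2⟩

theorem ord2 {v : G} (h : v * v = 1) (h1 : v ≠ 1) : orderOf v = 2 :=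
  have := Fact.mk Nat.prime_two
  orderOf_eq_prime (by rw [pow_two, h]) h1

theorem pow_mul_pow_mem {a b : G} (ha : a ∈ normalizer (A : Set G)) (h : a * b ∈ A) (n : ℕ) :
    a ^ n * b ^ n ∈ A := by
  induction n with
  | zero => simp
  | succ n ih =>
    rw [pow_succ' a, pow_succ b]
    simpa [mul_assoc] using mul_mem (conj_mem_of_mem_normalizer ha ih) h

/-- the setting: one class of involutions, `z` central in the Sylow subgroup `T` -/
structure Cf (z u : G) (T : Subgroup G) : Prop extends Hyp z u where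
  nab : ¬ IsMulCommutative G
  one : ∀ x y : G, orderOf x = 2 → orderOf y = 2 → IsConj x y
  syl : IsSylowIn 2 T ⊤
  zT : z ∈ T
  cz : ∀ t ∈ T, Commute t z

/-- `z` is the only central involution of `T` -/
def K1 (z : G) (T : Subgroup G) : Prop :=
  ∀ v ∈ T, v ∈ centralizer (T : Set G) → orderOf v = 2 → v = z

/-- `⟨z, s⟩` is a normal four-subgroup of `T` -/
structure SS (z s : G) (T : Subgroup G) : Prop where
  mem : s ∈ T
  sq : s * s = 1
  nz : s ∉ zpowers z
  cm : ∀ t ∈ T, t * s * t⁻¹ = s ∨ t * s * t⁻¹ = s * z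

theorem K1.z_mem (k : K1 z T) (hT : IsPGroup 2 T) (h1 : Y ≤ T) (h2 : Y ≠ ⊥)
    (h3 : T ≤ normalizer (Y : Set G)) : z ∈ Y := by
  obtain ⟨v, hv, ho, hc⟩ := exists_inv hT h1 h2 h3
  exact k v (h1 hv) hc ho ▸ hv

theorem SS.ord (hs : SS z s T) : orderOf s = 2 := ord2 hs.sq fun e => hs.nz (e ▸ one_mem _)

namespace Cf

variable (h : Cf z u T)
include h

theorem pg : IsPGroup 2 T := h.syl.isPGroup

theorem zc : z ∈ centralizer (T : Set G) := mem_centralizer_iff.2 h.cz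

theorem z_mem (h1 : Y ≤ T) (h2 : Y ≠ ⊥) (h3 : normalizer (T : Set G) ≤ normalizer (Y : Set G)) :
    z ∈ Y := by
  obtain ⟨v, hv, ho, hc⟩ := exists_inv h.pg h1 h2 (le_normalizer.trans h3)
  obtain ⟨n, hn, e⟩ := burn h.syl hc h.zc (h.one _ _ ho h.oz)
  exact e ▸ conj_mem_of_mem_normalizer (h3 hn) hv

theorem exists_X (k : K1 z T) (hs : SS z s T) : ∃ X c, SLoc X T ∧
    pCoreOf 2 X = T ⊓ centralizer {s} ∧ IsCharP 2 X ∧ c ∈ X ∧ orderOf c = 3 ∧ ¬ Commute c z := by
  have := Fact.mk Nat.prime_two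
  have := Fact.mk Nat.prime_three
  have zz := h.zz
  have ss := hs.sq
  have sz : s ≠ z := fun e => hs.nz (e ▸ mem_zpowers s)
  have csz := h.cz s hs.mem
  have cj : ∀ {g a : G}, g * a * g⁻¹ = a ↔ Commute g a := mul_inv_eq_iff_eq_mul
  have ne : s * z ≠ s := by simpa using h.z_ne
  obtain ⟨x, hx, ex⟩ : ∃ x ∈ T, x * s * x⁻¹ = s * z := by
    by_contra! e
    exact sz (k s hs.mem (mem_centralizer_iff.2 fun t ht =>
      cj.1 ((hs.cm t ht).resolve_right (e t ht))) hs.ord)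
  set T0 := T ⊓ centralizer {s} with hT0
  have m0 : ∀ {g}, g ∈ T0 ↔ g ∈ T ∧ g * s * g⁻¹ = s := and_congr Iff.rfl (mc.trans cj.symm)
  have hx0 : x ∉ T0 := fun e => ne (ex ▸ (m0.1 e).2)
  have cm : ∀ g a b : G, g * (a * b) * g⁻¹ = g * a * g⁻¹ * (g * b * g⁻¹) := fun g a b => by group
  have i2 : T0.relIndex T = 2 := relIndex_eq_two_iff.2 ⟨x, hx, fun b hb => by
    have e : b * x * s * (b * x)⁻¹ = b * s * b⁻¹ * z := by
      rw [← cj.2 (h.cz b hb), ← cm, ← ex]; group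
    rcases hs.cm b hb with e1 | e1
    · exact Or.inr ⟨m0.2 ⟨hb, e1⟩, fun e2 => ne (by rw [← e1, ← e, e1]; exact (m0.1 e2).2)⟩
    · exact Or.inl ⟨m0.2 ⟨mul_mem hb hx, by rw [e, e1, mul_assoc, zz, mul_one]⟩,
        fun e2 => ne (e1 ▸ (m0.1 e2).2)⟩⟩
  have nT := idx2_norm inf_le_left i2
  have z0 : z ∈ T0 := ⟨h.zT, mc.2 csz.symm⟩
  have s0 : s ∈ T0 := ⟨hs.mem, mc.2 (Commute.refl s)⟩
  have key : ∀ v ∈ T, v ∈ centralizer (T0 : Set G) → Commute x v → v * v = 1 → v = 1 ∨ v = z :=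
    fun v hv h1 h2 h3 => or_iff_not_imp_left.2 fun h4 => k v hv (mem_centralizer_iff.2 fun t ht => by
      by_cases e : t ∈ T0
      · exact h1 t e
      · have := Commute.mul_left (h1 _ ((idx2_mul i2 ht (inv_mem hx)).2
          (iff_of_false e (mt inv_mem_iff.1 hx0)))) h2
        simpa using this.eq) (ord2 h3 h4)
  have om : ∀ v ∈ T0, v ∈ centralizer (T0 : Set G) → v * v = 1 →
      v = 1 ∨ v = z ∨ v = s ∨ v = s * z := fun v hv h1 h3 => by
    have hv' := conj_mem_of_mem_normalizer (nT hx) hv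
    have h1' := conj_mem_of_mem_normalizer (normalizer_le_normalizer_centralizer _ (nT hx)) h1
    have c1 : Commute (x * v * x⁻¹) v := h1 _ hv'
    have vi : v⁻¹ = v := inv_eq_of_mul_eq_one_right h3
    have e : x * (x * v * x⁻¹) * x⁻¹ = v := by
      nth_rw 2 [← cj.2 (h1 _ ((idx2_mul i2 hx hx).2 Iff.rfl))]; group
    rcases key _ (mul_mem hv.1 hv'.1) (mul_mem h1 h1') (cj.1 (by rw [cm, e, c1.eq])) (by
      rw [← pow_two, c1.symm.mul_pow, conj_pow, pow_two, h3]; simp) with e1 | e1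
    · exact (key v hv.1 h1 (cj.1 ((eq_inv_of_mul_eq_one_right e1).trans vi)) h3).imp_right Or.inl
    · have cs : Commute s v := h1 s s0
      rcases key (v * s) (mul_mem hv.1 hs.mem) (mul_mem h1 fun g hg => mc.1 hg.2) (cj.1 (by
        rw [cm, ex, eq_inv_mul_of_mul_eq e1, vi, csz.eq, mul_assoc, ← mul_assoc z, zz, one_mul]))
        (by rw [← pow_two, cs.symm.mul_pow, pow_two, pow_two, h3, ss, one_mul]) with e2 | e2
      · exact Or.inr (Or.inr (Or.inl ((eq_inv_of_mul_eq_one_left e2).trans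
          (inv_eq_of_mul_eq_one_right ss))))
      · exact Or.inr (Or.inr (Or.inr (by
          rw [eq_mul_inv_of_mul_eq e2, inv_eq_of_mul_eq_one_right ss, csz.eq])))
  obtain ⟨g, eg, hg⟩ : ∃ g, g * z * g⁻¹ = s ∧ T0 ≤ conjS g T := by
    obtain ⟨g, eg⟩ := isConj_iff.1 (h.one _ _ h.oz hs.ord)
    have h1 := h.syl.conj g
    rw [conjS_top] at h1
    obtain ⟨a, ha, e⟩ := (h1.mono (K := centralizer {s}) (conjS_le_iff_forall.2 fun t ht =>
      mc.2 (eg ▸ (h.cz t ht).conj g)) le_top).exists_le_conj h.pg.to_inf_left inf_le_right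
    exact ⟨a * g, by rw [← cj.2 (mc.1 ha), ← eg]; group, by rwa [conjS_mul]⟩
  have j2 : T0.relIndex (conjS g T) = 2 := Nat.eq_of_mul_eq_mul_left (card_pos' T0) (by
    rw [card_rel hg, card_conjS, ← card_rel (inf_le_left : T0 ≤ T), i2])
  obtain ⟨y, hy, ey⟩ : ∃ y ∈ conjS g T, ¬ Commute y z := by
    by_contra! e
    have := k _ (mem_conjS.1 (hg z0)) (mem_centralizer_iff.2 fun t ht => by
      simpa [mul_assoc] using ((e _ (conj_mem_conjS.2 ht)).conj g⁻¹).eq)
      (by simpa using (orderOf_injective (MulAut.conj g⁻¹).toMonoidHom (MulEquiv.injective _) z).trans h.oz)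
    exact sz (by rw [← eg]; nth_rw 1 [← this]; group)
  have ys : y * s * y⁻¹ = s := by
    obtain ⟨t, ht, rfl⟩ := exists_of_mem_conjS hy
    exact cj.2 (eg ▸ (h.cz t ht).conj g)
  have ny := idx2_norm hg j2 hy
  have yz : y * z * y⁻¹ = s * z := by
    rcases om _ (conj_mem_of_mem_normalizer ny z0) (conj_mem_of_mem_normalizer
      (normalizer_le_normalizer_centralizer _ ny) fun t ht => h.cz t ht.1)
      (by rw [← cm, zz]; simp) with e | e | e | e
    · exact absurd (conj_eq_one_iff.1 e) h.z_ne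
    · exact absurd (cj.1 e) ey
    · exact absurd (by simpa using ys.trans e.symm) sz
    · exact e
  have cj2 : ∀ a, x * y * a * (x * y)⁻¹ = x * (y * a * y⁻¹) * x⁻¹ := fun a => by group
  have wz : x * y * z * (x * y)⁻¹ = s := by
    rw [cj2, yz, cm, ex, cj.2 (h.cz x hx), mul_assoc, zz, mul_one]
  have ws : x * y * s * (x * y)⁻¹ = s * z := by
    rw [cj2, ys, ex]
  have hw := mul_mem (nT hx) ny
  have hi : x * (x * y) * x⁻¹ * (x * y) ∈ T0 := by
    simpa [mul_assoc] using mul_mem ((idx2_mul i2 hx hx).2 Iff.rfl) ((idx2_mul j2 hy hy).2 Iff.rfl)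
  generalize x * y = w at wz ws hw hi
  have wsz : w * (s * z) * w⁻¹ = z := by
    rw [cm, wz, ws, csz.eq, mul_assoc, ss, mul_one]
  have p3 : ∀ a, w ^ 3 * a * (w ^ 3)⁻¹ = w * (w * (w * a * w⁻¹) * w⁻¹) * w⁻¹ := fun a => by
    simp [pow_succ, mul_assoc]
  have z3 : Commute (w ^ 3) z := cj.1 (by rw [p3, wz, ws, wsz])
  have s3 : Commute (w ^ 3) s := cj.1 (by rw [p3, ws, wsz, wz])
  obtain ⟨a, n, hn, e⟩ := Nat.exists_eq_pow_mul_and_not_dvd (orderOf_pos w).ne' 3 (by norm_num)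
  have nc : ¬ Commute (w ^ n) z := fun e => sz (wz.symm.trans (cj.2 (mc.1
    (mem_of_pow_mem_of_pow_mem ((Nat.Prime.coprime_iff_not_dvd Nat.prime_three).2 hn)
      (mc.2 z3) (mc.2 e)))))
  have oc : orderOf (w ^ n) = 3 := orderOf_eq_prime (by
    by_contra e1
    have e2 : ((w ^ n) ^ 3) ^ 3 ^ a = 1 := by
      rw [← pow_mul, mul_comm 3, pow_mul, ← pow_mul w, mul_comm n, ← e, pow_orderOf_eq_one, one_pow]
    obtain ⟨i, -, hi⟩ := (Nat.dvd_prime_pow Nat.prime_three).1 (orderOf_dvd_of_pow_eq_one e2)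
    obtain ⟨d, hd, od⟩ := exists_order Nat.prime_three (H := zpowers ((w ^ n) ^ 3)) (by
      rw [Nat.card_zpowers, hi]
      exact dvd_pow_self _ (by rintro rfl; exact e1 (orderOf_eq_one_iff.1 hi)))
    rw [← pow_mul, mul_comm, pow_mul] at hd
    have h1 := zpowers_le.2 (mc.2 (z3.pow_left n)) hd
    have h2 := zpowers_le.2 (mc.2 (s3.pow_left n)) hd
    exact hs.nz ((h.conj3z (mc.1 h1) od).two csz (mc.1 h2).symm ⟨1, by simpa [pow_two] using ss⟩))
    (fun e => nc (e ▸ Commute.one_left z))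
  obtain ⟨h1, h2⟩ := build h.pg inf_le_left i2 oc (pow_mem hw n) hx hx0 (by
    rw [← conj_pow]
    exact pow_mul_pow_mem (mul_mem (mul_mem (nT hx) hw) (inv_mem (nT hx))) hi n)
  have hc : w ^ n ∈ T ⊔ zpowers (w ^ n) := mem_sup_right (mem_zpowers _)
  refine ⟨_, _, h1, h2, fun g hg => ?_, hc, oc, nc⟩
  rw [h2] at hg ⊢
  refine ⟨by_contra fun e => nc (mc.1 (h1.le_of_max hg.1 e (fun t ht => mc.2 (h.cz t ht))
    (mc.2 (hg.2 z z0).symm) hc)), mc.2 (hg.2 s s0).symm⟩

end Cf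

end CfsgLib.SC6
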