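import Mathlib
import Cfsg.Agent.Lib.SC6.Loc
import Cfsg.Agent.Lib.ZStar.Main

/-!
Normal four-subgroups inside a normal subgroup `R` of the Sylow subgroup on which `u` acts, and
the case where `u` normalizes the Sylow subgroup.
-/

set_option autoImplicit false
set_option linter.unusedSectionVars false

namespace CfsgLib.SC6

open Subgroup Cfsg CfsgLib.LAE CfsgLib.Gam
open scoped commutatorElement MatrixGroups

variable {G : Type*} [Group G] [Finite G] {A B D L N R T V W X Y : Subgroup G} {z u s w : G}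

theorem idx_cases (h2 : (A.relIndex B).Prime) (h1 : A ≤ Y) (h3 : Y ≤ B) : Y = A ∨ Y = B := by
  have e := relIndex_mul_relIndex _ _ _ h1 h3
  rcases (Nat.dvd_prime h2).1 (Dvd.intro _ e) with e1 | e1
  · exact Or.inl (le_antisymm (relIndex_eq_one.1 e1) h1)
  · rw [e1] at e
    exact Or.inr (le_antisymm h3 (relIndex_eq_one.1
      (Nat.eq_of_mul_eq_mul_left h2.pos (by rw [e, mul_one]))))

theorem cj {g a : G} : g * a * g⁻¹ = a ↔ Commute g a := mul_inv_eq_iff_eq_mul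

theorem cm (g a b : G) : g * (a * b) * g⁻¹ = g * a * g⁻¹ * (g * b * g⁻¹) := by group

theorem cj2 (x y a : G) : x * y * a * (x * y)⁻¹ = x * (y * a * y⁻¹) * x⁻¹ := by group

/-- `w` is central in `T` modulo `z` -/
def Cm (z : G) (T : Subgroup G) (w : G) : Prop := ∀ t ∈ T, t * w * t⁻¹ = w ∨ t * w * t⁻¹ = w * z

/-- `R` is normalized by `T` and `u`, and `T` normalizes `R⟨u⟩` -/
structure RR (z u : G) (R T : Subgroup G) : Prop where
  le : R ≤ T
  zR : z ∈ R
  nT : T ≤ normalizer (R : Set G)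
  nu : u ∈ normalizer (R : Set G)
  dec : ∀ t ∈ T, ∃ r ∈ R, ∃ σ ∈ T, t = r * σ ∧ (σ * u * σ⁻¹ = u ∨ σ * u * σ⁻¹ = u⁻¹)

theorem Cm.mono (h : Cm z T w) (hR : R ≤ T) : Cm z R w := fun t ht => h t (hR ht)

theorem Cm.mem (h : Cm z T w) (hz : z ∈ W) (hw : w ∈ W) {t : G} (ht : t ∈ T) : t * w * t⁻¹ ∈ W := by
  rcases h t ht with e | e <;> rw [e]
  exacts [hw, mul_mem hw hz]

theorem Cm.conj (h : Cm z R w) {g : G} (hg : g ∈ normalizer (R : Set G)) (hz : Commute g z) :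
    Cm z R (g * w * g⁻¹) := fun t ht => by
  have e : t * (g * w * g⁻¹) * t⁻¹ = g * (g⁻¹ * t * g * w * (g⁻¹ * t * g)⁻¹) * g⁻¹ := by group
  rcases h _ (conj_inv_mem_of_mem_normalizer hg ht) with e1 | e1 <;> rw [e, e1]
  · exact Or.inl rfl
  · exact Or.inr (by rw [cm, cj.2 hz])

theorem Quo.le_of_simple {Y : Type*} [Group Y] [Finite Y] [IsSimpleGroup Y] (h : Quo L N Y)
    (h3 : 3 ∣ Nat.card Y) (hQ : IsPGroup 2 V) (h1 : V ≤ L) (h2 : L ≤ normalizer (V : Set G)) :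
    V ≤ N := by
  have := Fact.mk Nat.prime_two
  obtain ⟨φ, hs, hk⟩ := h
  rcases ((normal_subgroupOf_of_le h2).map φ hs).eq_bot_or_eq_top with e | e
  · exact fun v hv => (((Subgroup.map_eq_bot_iff _).1 e).trans hk.le : V.subgroupOf L ≤ _)
      (x := ⟨v, h1 hv⟩) hv
  · obtain ⟨k, hk⟩ := (((isPGroup_subgroupOf_iff h1).2 hQ).map φ).exists_card_eq
    rw [e, card_top] at hk
    exact absurd (Nat.prime_three.dvd_of_dvd_pow (hk ▸ h3)) (by norm_num)

namespace Hyp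

variable (h : Hyp z u)
include h

theorem cm_mul {a b : G} (ha : Cm z T a) (hb : Cm z T b) (hz : Commute b z) : Cm z T (a * b) :=
  fun t ht => by
    rcases ha t ht with e | e <;> rcases hb t ht with e' | e' <;> rw [cm, e, e']
    · exact Or.inl rfl
    · exact Or.inr (mul_assoc _ _ _).symm
    · exact Or.inr (by rw [mul_assoc, ← hz.eq, mul_assoc])
    · exact Or.inl (by rw [hz.eq, mul_assoc, ← mul_assoc z, h.zz, one_mul])

theorem cm_pow {a : G} (ha : Cm z T a) (hz : Commute a z) (n : ℕ) : Cm z T (a ^ n) := by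
  induction n with
  | zero => exact fun t _ => Or.inl (by simp)
  | succ n ih => rw [pow_succ]; exact h.cm_mul ih ha hz

theorem cm_comm {a b : G} (hw : Cm z R w) (hz : ∀ t ∈ R, Commute t z) (ha : a ∈ R) (hb : b ∈ R)
    (h1 : ¬ Commute a w) (h2 : ¬ Commute b w) : Commute (a * b) w := cj.1 (by
  rw [cj2, (hw b hb).resolve_left (mt cj.1 h2), cm, (hw a ha).resolve_left (mt cj.1 h1),
    cj.2 (hz a ha), mul_assoc, h.zz, mul_one])

theorem fixz (hV : IsPGroup 2 V) (hz : z ∈ V) {n : G} (hn : n ∈ V)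
    (e : u * n * u⁻¹ = n ∨ u * n * u⁻¹ = n * z) : n ∈ zpowers z := by
  rcases e with e | e
  · exact h.mem_fix hV hz hn (cj.1 e).symm
  · refine h.inv.mem_fix hV hz hn (cj.1 ?_).symm
    rw [h.u_inv, cj2, e, cm, e, cj.2 h.comm.symm, mul_assoc, h.zz, mul_one]

theorem u_conj3 (a : G) : u * (u * (u * a * u⁻¹) * u⁻¹) * u⁻¹ = a := by
  rw [← cj2, ← cj2, h.uuu]; simp

theorem exists_inv' (hV : IsPGroup 2 V) (hz : z ∈ V) (hL : L ≤ normalizer (V : Set G))
    (hu : u ∈ L) (hN : Nil V N L) (h6 : N.relIndex L = 6) :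
    ∃ σ ∈ L, σ ^ 2 ^ 2 = 1 ∧ σ * u * σ⁻¹ = u⁻¹ := by
  have := Fact.mk Nat.prime_three
  have hK : N ⊔ zpowers u ≤ L := sup_le hN.le' (zpowers_le.2 hu)
  have e1 := Coprime.card_sup_mul_card_inf (zpowers_le.2 (hN.norm hu))
  rw [show N ⊓ zpowers u = ⊥ from eq_bot_iff.2 fun g hg => by
    have := N.orderOf_dvd_natCard hg.1
    rcases h.mem_u.1 hg.2 with rfl | rfl | rfl
    exacts [one_mem _, absurd (h.ou ▸ this) hN.three, absurd (h.inv.ou ▸ this) hN.three],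
    card_bot, h.card_u, mul_one, ← card_rel (le_sup_left : N ≤ N ⊔ zpowers u)] at e1
  have e2 := relIndex_mul_relIndex _ _ _ (le_sup_left : N ≤ N ⊔ zpowers u) hK
  rw [Nat.eq_of_mul_eq_mul_left (card_pos' N) e1, h6] at e2
  have i2 : (N ⊔ zpowers u).relIndex L = 2 := by omega
  obtain ⟨x, hx, hx'⟩ : ∃ x ∈ L, x ∉ N ⊔ zpowers u := by
    by_contra! e
    have := relIndex_eq_one.2 e
    omega
  obtain ⟨n, hn, y, hy, rfl⟩ := ((h.sylow3 hV hz hL hu).mono le_sup_right hK).frattini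
    (idx2_norm hK i2 hx)
  have yL : y ∈ L := by simpa using mul_mem (inv_mem (hK hn)) hx
  have ey : y * u * y⁻¹ = u⁻¹ := by
    rcases h.mem_u.1 (conj_mem_of_mem_normalizer hy (mem_zpowers u)) with e | e | e
    · exact absurd (conj_eq_one_iff.1 e) h.u_ne
    · exact absurd (mul_mem hn (sup_le_sup_right ((zpowers_le.2 hz).trans hN.le) _
        (h.cent y (h.centL hV hz (hL yL) (cj.1 e)) (cj.1 e)))) hx'
    · exact e
  have c2 : Commute (y * y) u := cj.1 (by rw [cj2, ey, ← conj_inv, ey, inv_inv])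
  obtain ⟨a, ha, b, hb, e⟩ := h.cent' (h.centL hV hz (hL (mul_mem yL yL)) c2) c2
  refine ⟨y * y * y, mul_mem (mul_mem yL yL) yL, ?_, by rw [cj2, ey]; exact cj.2 c2.inv_right⟩
  have ha2 : a ^ 2 = 1 := by rcases h.mem_z.1 ha with rfl | rfl <;> simp [pow_two, h.zz]
  have hb3 : b ^ 3 = 1 := by rcases h.mem_u.1 hb with rfl | rfl | rfl <;> simp [h.u3]
  rw [show (y * y * y) ^ 2 ^ 2 = (y * y) ^ 6 by simp only [← pow_two, ← pow_succ, ← pow_mul]; rfl, e,
    (h.comm_zu ha hb).mul_pow, show a ^ 6 = (a ^ 2) ^ 3 by rw [← pow_mul],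
    show b ^ 6 = (b ^ 3) ^ 2 by rw [← pow_mul], ha2, hb3]
  simp

end Hyp

namespace Cf

variable (h : Cf z u T)
include h

theorem exists_cm (h1 : D ≤ T) (h2 : T ≤ normalizer (D : Set G)) (h3 : ¬ D ≤ zpowers z) :
    ∃ d ∈ D, d ∉ zpowers z ∧ (d * d = 1 ∨ d * d = z) ∧ Cm z T d := by
  classical
  have := Fact.mk Nat.prime_two
  obtain ⟨n, hn⟩ := exists_iterCommutator_eq_bot_of_isPGroup (h.pg.to_le h1) h.pg h2
  obtain ⟨v, hv, h4, h5⟩ := exists_mem_not_mem_commutator_mem h2 hn h3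
  have c : Cm z T v⁻¹ := fun t ht => by
    rcases h.mem_z.1 (h5 t ht) with e | e
    · exact Or.inl (cj.2 (Commute.symm (commutatorElement_eq_one_iff_commute.1 e)).inv_right)
    · exact Or.inr (by rw [← e, commutatorElement_def]; simp [mul_assoc])
  have ex : ∃ k, v⁻¹ ^ 2 ^ k ∈ zpowers z :=
    (two_pow_of_mem h.pg (inv_mem (h1 hv))).imp fun k hk => by rw [hk]; exact one_mem _
  obtain ⟨k, hk⟩ := Nat.exists_eq_succ_of_ne_zero (n := Nat.find ex) fun e => by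
    have := Nat.find_spec ex
    rw [e] at this
    exact h4 (by simpa using this)
  refine ⟨v⁻¹ ^ 2 ^ k, pow_mem (inv_mem hv) _, Nat.find_min ex (by omega), h.mem_z.1 ?_,
    h.cm_pow c (h.cz _ (inv_mem (h1 hv))) _⟩
  rw [← pow_two, ← pow_mul, ← pow_succ, ← Nat.succ_eq_add_one, ← hk]
  exact Nat.find_spec ex

theorem not_unique [IsSimpleGroup G] : ¬ ∀ a ∈ T, a * a = 1 → a ∈ zpowers z := fun e => by
  have := Fact.mk Nat.prime_two
  refine ZStar.not_isolated_of_simple h.nab z ⟨h.oz, fun g hg => ?_⟩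
  have o := (h.conj g).oz
  obtain ⟨c, hc, e1⟩ := (h.syl.mono (K := centralizer {z}) (fun t ht => mc.2 (h.cz t ht))
    le_top).exists_conj_le (h.conj g).pg_z (zpowers_le.2 (mc.2 hg.symm))
  have k := (h.conj g).conj c
  rcases h.mem_z.1 (e _ (e1 (conj_mem_conjS.2 (mem_zpowers _))) k.zz) with e2 | e2
  · exact absurd e2 k.z_ne
  · have := e2.trans (cj.2 (mc.1 hc)).symm
    simpa using this

variable (r : RR z u R T)
include r

theorem pgR : IsPGroup 2 R := h.pg.to_le r.le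

theorem cardR : Nat.card R % 3 = 2 := h.card_mod (h.pgR r) r.zR r.nu

theorem tri (hw : w ∈ R) (c : Cm z R w) :
    w * (u * w * u⁻¹) * (u * (u * w * u⁻¹) * u⁻¹) ∈ zpowers z := by
  have h1 := conj_mem_of_mem_normalizer r.nu hw
  have h2 := conj_mem_of_mem_normalizer r.nu h1
  refine h.fixz (h.pgR r) r.zR (mul_mem (mul_mem hw h1) h2) ?_
  rw [cm, cm, h.u_conj3]
  refine (c _ (mul_mem h1 h2)).imp (fun e => ?_) fun e => ?_
  · rw [mul_inv_eq_iff_eq_mul.1 e, mul_assoc w]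
  · rw [mul_inv_eq_iff_eq_mul.1 e, mul_assoc w, ← (h.cz _ (r.le (mul_mem h1 h2))).eq]; group

theorem third (hw : w ∈ R) (c : Cm z R w) (h0 : z ∈ W) (h1 : w ∈ W) (h2 : u * w * u⁻¹ ∈ W) :
    u * (u * w * u⁻¹) * u⁻¹ ∈ W :=
  (mul_mem_cancel_left (mul_mem h1 h2)).1 (zpowers_le.2 h0 (h.tri r hw c))

theorem conj_W (hw : w ∈ R) (c : Cm z T w) (h0 : z ∈ W) (h1 : w ∈ W) (h2 : u * w * u⁻¹ ∈ W)
    {t : G} (ht : t ∈ T) : t * (u * w * u⁻¹) * t⁻¹ ∈ W := by
  obtain ⟨a, ha, σ, hσ, rfl, e⟩ := r.dec t ht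
  have c1 := (c.mono r.le).conj r.nu h.comm.symm
  have c2 := c1.conj r.nu h.comm.symm
  have h3 := h.third r hw (c.mono r.le) h0 h1 h2
  have e1 : σ * (u * w * u⁻¹) * σ⁻¹ = σ * u * σ⁻¹ * (σ * w * σ⁻¹) * (σ * u * σ⁻¹)⁻¹ := by group
  have za := cj.2 (h.cz a (r.le ha))
  rw [cj2, e1]
  rcases e with e | e <;> rcases c σ hσ with e' | e' <;> rw [e, e']
  · exact c1.mem h0 h2 ha
  · rw [cm u, cj.2 h.comm.symm, cm, za]; exact mul_mem (c1.mem h0 h2 ha) h0
  · rw [h.u_inv, cj2]; exact c2.mem h0 h3 ha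
  · rw [cm u⁻¹, cj.2 h.inv.comm.symm, cm, za, h.u_inv, cj2]; exact mul_mem (c2.mem h0 h3 ha) h0

theorem exs : ((∀ a ∈ R, a * a = 1 → a ∈ zpowers z) ∧ Nat.card R ≤ 8) ∨ ∃ s ∈ R, SS z s T := by
  refine or_iff_not_imp_right.2 fun hn => ?_
  have ex : ∀ D ≤ R, T ≤ normalizer (D : Set G) → ¬ D ≤ zpowers z →
      ∃ d ∈ D, d * d = z ∧ Cm z T d := fun D h1 h2 h3 => by
    obtain ⟨d, h4, h5, h6, h7⟩ := h.exists_cm (h1.trans r.le) h2 h3
    exact ⟨d, h4, h6.resolve_left fun e => hn ⟨d, h1 h4, r.le (h1 h4), e, h5, h7⟩, h7⟩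
  by_cases e : R ≤ zpowers z
  · exact ⟨fun a ha _ => e ha, (card_le_of_le e).trans (by rw [h.card_z]; norm_num)⟩
  obtain ⟨w, hw, w2, c⟩ := ex R le_rfl r.nT e
  have cz : ∀ t ∈ R, Commute t z := fun t ht => h.cz t (r.le ht)
  have c0 := c.mono r.le
  have c1 := c0.conj r.nu h.comm.symm
  have m1 := conj_mem_of_mem_normalizer r.nu hw
  have m2 := conj_mem_of_mem_normalizer r.nu m1
  have s1 : u * w * u⁻¹ * (u * w * u⁻¹) = z := by rw [← cm, w2, cj.2 h.comm.symm]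
  have s2 : u * (u * w * u⁻¹) * u⁻¹ * (u * (u * w * u⁻¹) * u⁻¹) = z := by
    rw [← cm, s1, cj.2 h.comm.symm]
  have sq : ∀ b ∈ R, ∀ a, b * b = z → b * a ∈ zpowers z → a * a = z := fun b hb a e1 e2 => by
    have := (cz b hb).inv_left
    rcases h.mem_z.1 e2 with e2 | e2 <;> rw [eq_inv_mul_of_mul_eq e2]
    · rw [mul_one, ← mul_inv_rev, e1, h.z_inv]
    · rw [← pow_two, this.mul_pow, pow_two, pow_two, ← mul_inv_rev, e1, h.zz, h.z_inv, mul_one]
  have t3 := h.tri r hw c0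
  have nc : ¬ Commute w (u * w * u⁻¹) := fun e => h.z_ne (by
    have := sq _ m2 (w * (u * w * u⁻¹)) s2 (by
      have := conj_mem_of_mem_normalizer (h.norm_z (cz _ m2)) t3
      rwa [← mul_assoc, mul_inv_cancel_right] at this)
    rw [← this, ← pow_two, e.mul_pow, pow_two, pow_two, w2, s1, h.zz])
  have n1 : ¬ Commute (u * (u * w * u⁻¹) * u⁻¹) (u * w * u⁻¹) := fun e =>
    nc (by simpa [mul_assoc] using (e.conj u⁻¹).symm)
  have n0 : ¬ Commute (u * (u * w * u⁻¹) * u⁻¹) w := fun e =>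
    nc (by have := e.conj u; rwa [h.u_conj3] at this)
  by_cases hD : R ⊓ centralizer {w} ⊓ centralizer {u * w * u⁻¹} ≤ zpowers z
  · refine ⟨fun a ha a2 => ?_, ?_⟩
    · have k : ∀ b ∈ R, b * b = z → Commute (b * a) w → Commute (b * a) (u * w * u⁻¹) → False :=
        fun b hb e e1 e2 => h.z_ne
          ((sq b hb a e (hD ⟨⟨mul_mem hb ha, mc.2 e1⟩, mc.2 e2⟩)).symm.trans a2)
      by_cases e1 : Commute a w <;> by_cases e2 : Commute a (u * w * u⁻¹)
      · exact hD ⟨⟨ha, mc.2 e1⟩, mc.2 e2⟩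
      · exact (k w hw w2 ((Commute.refl w).mul_left e1) (h.cm_comm c1 cz hw ha nc e2)).elim
      · exact (k _ m1 s1 (h.cm_comm c0 cz m1 ha (mt Commute.symm nc) e1)
          ((Commute.refl _).mul_left e2)).elim
      · exact (k _ m2 s2 (h.cm_comm c0 cz m2 ha n0 e1) (h.cm_comm c1 cz m2 ha n1 e2)).elim
    · have e1 := card_le_two_mul (H := R) (centralizer {w}) fun a ha b hb h1 h2 =>
        mc.2 (h.cm_comm c0 cz ha hb (mt mc.2 h1) (mt mc.2 h2))
      have e2 := card_le_two_mul (H := R ⊓ centralizer {w}) (centralizer {u * w * u⁻¹})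
        fun a ha b hb h1 h2 => mc.2 (h.cm_comm c1 cz ha.1 hb.1 (mt mc.2 h1) (mt mc.2 h2))
      have e3 := card_le_of_le hD
      rw [h.card_z] at e3
      omega
  obtain ⟨d, hd, d2, cd⟩ := ex _ (inf_le_left.trans inf_le_left) (fun t ht =>
    mem_normalizer_of_conjS_le (conjS_le_iff_forall.2 fun d hd => by
      have k0 := mc.2 (cz d hd.1.1).symm
      have k1 := mc.2 (mc.1 hd.1.2).symm
      have k2 := mc.2 (mc.1 hd.2).symm
      refine ⟨⟨conj_mem_of_mem_normalizer (r.nT ht) hd.1.1, mc.2 ?_⟩, mc.2 ?_⟩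
      · simpa [mul_assoc] using ((mc.1 (c.mem k0 k1 (inv_mem ht))).conj t).symm
      · simpa [mul_assoc] using ((mc.1 (h.conj_W r hw c k0 k1 k2 (inv_mem ht))).conj t).symm)) hD
  refine (hn ⟨w * d, mul_mem hw hd.1.1, r.le (mul_mem hw hd.1.1), ?_, fun e => nc ?_,
    h.cm_mul c cd (cz d hd.1.1)⟩).elim
  · rw [← pow_two, (mc.1 hd.1.2).symm.mul_pow, pow_two, pow_two, w2, d2, h.zz]
  · exact mc.1 ((Subgroup.mul_mem_cancel_right _ hd.2).1 (zpowers_le.2 (mc.2 (cz _ m1).symm) e))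

omit r in
theorem odd_idx {Y : Type*} [Group Y] [Finite Y] [IsSimpleGroup Y]
    (q : Quo (normalizer (T : Set G)) N Y) (h6 : 6 ∣ Nat.card Y) : False := by
  have := Fact.mk Nat.prime_two
  have e := relIndex_dvd_of_le_left (normalizer (T : Set G))
    (q.le_of_simple (dvd_trans (by norm_num) h6) h.pg le_normalizer le_rfl)
  rw [q.relIndex] at e
  exact (h.syl.mono le_normalizer le_top).not_dvd_relIndex ((dvd_trans (by norm_num) h6).trans e)

omit r in
theorem k1_of (hu : u ∈ normalizer (T : Set G)) {x : G} (hx : x ∈ T) (x2 : x * x ≠ 1) : K1 z T := by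
  have := Fact.mk Nat.prime_two
  have hS := h.syl.mono le_normalizer le_top
  have hV : IsPGroup 2 (omegaZ 2 T) := h.pg.to_le (omegaZ_le T)
  have zV : z ∈ omegaZ 2 T := mem_omegaZ.2 ⟨h.zT, h.zc, by rw [pow_two, h.zz]⟩
  have zP : z ∈ CGT2.sqs T := h.z_mem ((closure_le _).2 (by
      rintro _ ⟨y, hy, rfl⟩; exact mul_mem hy hy))
    (fun e => x2 (mem_bot.1 (e ▸ Subgroup.subset_closure ⟨x, hx, rfl⟩)))
    fun g hg => mem_normalizer_of_conjS_le
      ((CGT2.conjS_sqs_le g T).trans (by rw [mem_normalizer_iff_conjS.1 hg]))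
  rcases h.ft hV zV ((omegaZ_le T).trans le_normalizer) (normalizer_le_normalizer_omegaZ T) hu with
    ⟨N, h1, e | e⟩ | ⟨N, -, -, -, e⟩ | e
  · have hT : T ≤ N := by
      have e1 := relIndex_dvd h1.norm hS.le
      obtain ⟨k, hk⟩ := relIndex_pow (N := N) h.pg
      rw [e, hk] at e1
      exact relIndex_eq_one.1 (hk.trans (Nat.dvd_one.1
        (pow_dvd_of_odd (a := 1) (b := 3) e1 (by decide))))
    have hN : N ≤ centralizer {z} := (hS.mono hT h1.le').le_of_pResOf_le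
      (pResOf_le_iff.2 fun a ha hc => mc.2 (Commute.symm (mc.1
        (((closure_le (centralizer {a})).2 (by
          rintro _ ⟨y, hy, rfl⟩
          obtain ⟨k, hk⟩ := two_pow_of_mem h.pg hy
          obtain ⟨-, h3, h4⟩ := mem_omegaZ.1 (h1.cop a ha y (hT hy)
            ((hc.pow_right k).coprime_dvd_right (orderOf_dvd_of_pow_eq_one hk)))
          refine mc.2 (cj.1 ?_).symm
          rw [cm, show a * y * a⁻¹ = ⁅a, y⁆ * y by simp [commutatorElement_def], ← pow_two,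
            (Commute.symm (h3 y hy)).mul_pow, h4, one_mul, pow_two])) zP))))
      fun t ht => mc.2 (h.cz t ht)
    rcases idx_cases (Y := normalizer (T : Set G) ⊓ centralizer {z}) (e ▸ Nat.prime_three)
      (le_inf h1.le' hN) inf_le_left with e1 | e1
    · exact absurd (h.ou ▸ N.orderOf_dvd_natCard (e1.le ⟨hu, mc.2 h.comm.symm⟩)) h1.three
    · intro v _ hv ho
      obtain ⟨n, hn, rfl⟩ := burn h.syl h.zc hv (h.one _ _ h.oz ho)
      exact cj.2 (mc.1 (e1.ge hn).2)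
  · obtain ⟨σ, h2, h3, h4⟩ := h.exists_inv' hV zV (normalizer_le_normalizer_omegaZ T) hu h1
      (e.relIndex.trans cardS3)
    have h5 := hS.le_of_normalizes (IsPGroup.of_card_dvd_pow (n := 2)
      (by rw [Nat.card_zpowers]; exact orderOf_dvd_of_pow_eq_one h3)) (zpowers_le.2 h2)
      (zpowers_le.2 h2) (mem_zpowers σ)
    refine (not_mem_of_three h.pg h.ou ?_).elim
    have := mul_mem h5 (conj_mem_of_mem_normalizer hu (inv_mem h5))
    rwa [← mul_assoc, ← mul_assoc, h4, ← mul_inv_rev, ← h.u_inv, inv_inv] at this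
  · exact (h.odd_idx e (by rw [cardA5]; norm_num)).elim
  · have := simple7
    exact (h.odd_idx e (by rw [card7]; norm_num)).elim

omit r in
/-- if `u` normalizes the Sylow subgroup `T`, then `T` is elementary abelian -/
theorem confI [IsSimpleGroup G] (hu : u ∈ normalizer (T : Set G)) : ∀ x ∈ T, x * x = 1 := by
  intro x hx
  by_contra x2
  have k := h.k1_of hu hx x2
  rcases h.exs ⟨le_rfl, h.zT, le_normalizer, hu, fun t ht =>
    ⟨t, ht, 1, one_mem _, (mul_one t).symm, Or.inl (by simp)⟩⟩ with ⟨e, -⟩ | ⟨s, -, hs⟩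
  · exact h.not_unique e
  obtain ⟨X, c, h1, h2, h3, h4, h5, -⟩ := h.exists_X k hs
  obtain ⟨Y, h6, h7, h8, h9⟩ := ste h.syl h1 h3
  have hY := h.pg.to_le h6
  obtain ⟨g, -, e1, e2⟩ := h.conj3 hY (h.z_mem h6 h7 h8) le_rfl (h8 hu) (h9 h4) h5
  have e3 := e2.card_mod (isPGroup_pCoreOf X) (le_pCoreOf hY (h6.trans h1.syl.le) h9 e1)
    (le_normalizer_pCoreOf X h4)
  have e4 := card_rel h1.Q_le
  have e5 := h.card_mod h.pg h.zT hu
  rw [h1.idx2] at e4
  omega

end Cf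

end CfsgLib.SC6
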