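import Mathlib
import Cfsg.Agent.Lib.SC6.FT
import Cfsg.Agent.Lib.SL2.SylowTwo
import Cfsg.Agent.Lib.SL2.PSL
import Cfsg.Agent.Lib.Perm.BinPSL
import Cfsg.Agent.Lib.Mathieu.Syl2
import Cfsg.Agent.Lib.Unitary.Center
import Cfsg.Agent.Lib.SmallSimple.Basic

/-!
Facts on explicit groups: self-centralizing elements of order six in `L₂(q)`, two classes of
involutions in `A₈`, `A₉`, `M₁₂`, the Sylow 2-normalizer of `A₅`.
-/

set_option autoImplicit false

namespace CfsgLib.SC6

open Subgroup Cfsg CfsgLib.LAE Equiv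
open scoped MatrixGroups

/-- all involutions are conjugate -/
def One (G : Type*) [Group G] : Prop := ∀ x y : G, orderOf x = 2 → orderOf y = 2 → IsConj x y

theorem One.map {G H : Type*} [Group G] [Group H] (h : One G) (e : G ≃* H) : One H := by
  intro x y hx hy
  simpa using e.toMonoidHom.map_isConj
    (h (e.symm x) (e.symm y) (by rw [e.symm.orderOf_eq, hx]) (by rw [e.symm.orderOf_eq, hy]))

theorem psl_six {F : Type*} [Field F] [Fintype F] {v : PSL(2, F)} (ho : orderOf v = 6)
    (hc : Nat.card (centralizer ({v} : Set PSL(2, F))) = 6) :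
    Fintype.card F = 11 ∨ Fintype.card F = 13 := by
  by_cases h2 : (2 : F) = 0
  · obtain ⟨P, hP⟩ := Perm.Binary.exists_sylow_eq h2 (t := v ^ 3)
      (by rw [orderOf_pow' _ (by norm_num), ho]; rfl)
    exact (not_mem_of_three P.isPGroup' (c := v ^ 2) (by rw [orderOf_pow' _ (by norm_num), ho]; rfl)
      (hP ▸ mc.2 ((Commute.refl v).pow_pow 2 3))).elim
  obtain ⟨g, rfl⟩ := SL2.pm_surjective v
  have hp : ∀ n, g ^ (2 * n) = 1 → 6 ∣ n := fun n e => by
    rw [← ho]
    refine orderOf_dvd_of_pow_eq_one ?_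
    rw [← map_pow, SL2.pm_eq_one_iff, ← SL2.sq_eq_one_iff_isScal h2, ← pow_add, ← two_mul, e]
  have hns : ¬ SL2.IsScal g := fun e => by
    rw [SL2.pm_eq_one_iff.2 e, orderOf_one] at ho; omega
  have htr : SL2.tr g ^ 2 ≠ 4 := fun e => by
    obtain ⟨z, b, hz, -, e⟩ := SL2.exists_conj_unip hns e
    have := ((Nat.dvd_prime (CharP.char_is_prime F (ringChar F))).1
      (hp _ (SL2.pow_eq_one_of_isConj e (SL2.scal_mul_uu_pow hz b)))).resolve_left (by norm_num)
    exact absurd (this ▸ CharP.char_is_prime F (ringChar F)) (by norm_num)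
  have hi := SL2.index_pm_of_ne (g := g) (Or.inr fun e =>
    absurd (hp 2 (SL2.pow_four_of_tr_zero e)) (by norm_num))
  have e1 := (centralizer {SL2.pm g}).card_mul_index
  have e2 := (centralizer {g}).card_mul_index
  have e3 := card_eq_card_quotient_mul_card_subgroup (center SL(2, F))
  have e4 : 0 < (centralizer {g}).index := Nat.pos_of_ne_zero index_ne_zero_of_finite
  rw [SL2.card_center_odd h2, ← e2] at e3
  rw [hc, hi] at e1
  change _ = Nat.card PSL(2, F) * 2 at e3
  have e5 : Nat.card (centralizer {g}) = 12 := Nat.eq_of_mul_eq_mul_right e4 (by omega)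
  rcases SL2.card_centralizer_regular htr with e | e <;> omega

theorem alt_two {n : ℕ} (x y : alternatingGroup (Fin n)) (hx : x * x = 1) (hy : y * y = 1)
    (h : x.1.support.card ≠ y.1.support.card) (h1 : x ≠ 1) (h2 : y ≠ 1) :
    ¬ One (alternatingGroup (Fin n)) := fun e => by
  have := Fact.mk Nat.prime_two
  obtain ⟨c, hc⟩ := isConj_iff.1 (e x y (orderOf_eq_prime (by rw [pow_two, hx]) h1)
    (orderOf_eq_prime (by rw [pow_two, hy]) h2))
  exact h (by rw [← hc]; exact (Perm.card_support_conj).symm)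

theorem alt8_two : ¬ One (alternatingGroup (Fin 8)) :=
  alt_two ⟨swap 0 1 * swap 2 3, Perm.mem_alternatingGroup.2 (by simp)⟩
    ⟨swap 0 1 * swap 2 3 * swap 4 5 * swap 6 7, Perm.mem_alternatingGroup.2 (by simp)⟩
    (Subtype.ext (by decide)) (Subtype.ext (by decide)) (by decide)
    (fun e => absurd (congrArg Subtype.val e) (by decide))
    (fun e => absurd (congrArg Subtype.val e) (by decide))

theorem alt9_two : ¬ One (alternatingGroup (Fin 9)) :=
  alt_two ⟨swap 0 1 * swap 2 3, Perm.mem_alternatingGroup.2 (by simp)⟩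
    ⟨swap 0 1 * swap 2 3 * swap 4 5 * swap 6 7, Perm.mem_alternatingGroup.2 (by simp)⟩
    (Subtype.ext (by decide)) (Subtype.ext (by decide)) (by decide)
    (fun e => absurd (congrArg Subtype.val e) (by decide))
    (fun e => absurd (congrArg Subtype.val e) (by decide))

open Mathieu Golay in
theorem m12_two : ¬ One Spor.M12 := fun e => by
  have := Fact.mk Nat.prime_two
  obtain ⟨g, hg, eg⟩ := has_nth has_syl12 0
  obtain ⟨k, hk, ek⟩ := has_word has_syl12 [0, 4]
  have o : ∀ x : Spor.M12, comp (code x.1) (code x.1) = idc → code x.1 ≠ idc → orderOf x = 2 :=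
    fun x h1 h2 => orderOf_eq_prime (Subtype.ext (code_eq_idc.1 (by
      rw [pow_two, coe_mul, code_mul, h1]))) fun e => h2 (by rw [e]; exact code_one)
  obtain ⟨c, hc⟩ := isConj_iff.1 (e ⟨g, hg⟩ ⟨k, hk⟩
    (o _ (by rw [eg]; decide +kernel) (by rw [eg]; decide +kernel))
    (o _ (by rw [ek]; decide +kernel) (by rw [ek]; decide +kernel)))
  have h1 : g (pt 4) = pt 4 := apply_pt_eq eg (by norm_num) (by decide +kernel)
  have h2 : k (c.1 (pt 4)) = c.1 (pt 4) := by
    rw [show k = c.1 * g * c.1⁻¹ from (congrArg Subtype.val hc).symm]; simp [h1]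
  have h3 := app_code_ix k (c.1 (pt 4))
  rw [h2, ek] at h3
  exact (by decide +kernel : ∀ i < 24, app (word syl12 [0, 4]) i ≠ i) _ (ix_lt _) h3

theorem norm_three {Y : Type*} [Group Y] [Finite Y] [IsSimpleGroup Y] (hY : Nat.card Y = 60)
    (S : Sylow 2 Y) : ∃ n ∈ normalizer ((S : Subgroup Y) : Set Y), orderOf n = 3 := by
  have := Fact.mk Nat.prime_two
  have hn : ¬ IsMulCommutative Y := SmallSimple.not_comm_of_not_prime (by rw [hY]; norm_num)
  have h4 : Nat.card (S : Subgroup Y) = 2 ^ 2 := by
    rw [S.card_eq_multiplicity, hY]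
    exact congrArg _ (Mathieu.factorization_two_pow_mul (k := 2) (m := 15) (by norm_num))
  have := IsPGroup.isMulCommutative_of_card_eq_prime_sq h4
  refine exists_order Nat.prime_three (by_contra fun e => ?_)
  have e1 := (normalizer ((S : Subgroup Y) : Set Y)).card_mul_index
  have e2 := card_dvd_of_le (le_normalizer (H := (S : Subgroup Y)))
  have e3 := mt (fun e : Nat.card _ ≤ Nat.card _ =>
    (eq_of_le_of_card_ge le_normalizer e).ge.trans (le_centralizer _))
    (SmallSimple.not_normalizer_le_centralizer hn S (by rw [hY]; norm_num))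
  have e4 := SmallSimple.two_mul_card_dvd_factorial hn (normalizer ((S : Subgroup Y) : Set Y))
    fun e' => e (by rw [e', card_top, hY]; norm_num)
  rw [hY] at e1 e4
  rw [h4] at e2 e3
  generalize Nat.card (normalizer ((S : Subgroup Y) : Set Y)) = a at *
  generalize (normalizer ((S : Subgroup Y) : Set Y)).index = b at *
  have := Nat.le_of_dvd (by norm_num) (Dvd.intro _ e1)
  interval_cases a <;> try omega
  rw [show b = 3 by omega] at e4
  norm_num [Nat.factorial] at e4

theorem card_U33 {F : Type*} [Field F] [Fintype F] (h : Fintype.card F = 9) :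
    Nat.card (PSU 3 F 3) = 6048 := by
  have := Unitary.card_PSU (q := 3) (n := 3) h (by norm_num)
  simp [Finset.prod_range_succ] at this
  omega

theorem card_U34 {F : Type*} [Field F] [Fintype F] (h : Fintype.card F = 16) :
    Nat.card (PSU 3 F 4) = 62400 := by
  have := Unitary.card_PSU (q := 4) (n := 3) h (by norm_num)
  simp [Finset.prod_range_succ] at this
  omega

theorem cardA7 : Nat.card (alternatingGroup (Fin 7)) = 2520 := by
  rw [nat_card_alternatingGroup]; simp; rfl

end CfsgLib.SC6
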