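import Mathlib
import Cfsg.Agent.Lib.SC6.Exs
import Cfsg.Agent.Lib.Coprime.Abelian
import Cfsg.Agent.Lib.TwoGrp.Pres
import Cfsg.Agent.Lib.FiLoc.Xsp
import Cfsg.Agent.Lib.PSL2Rec.O168

/-!
The case where an element of the Sylow subgroup inverts `u`: the normal subgroup `R` of index two
is extraspecial of order 32 as soon as it contains a normal four-subgroup.
-/

set_option autoImplicit false
set_option linter.unusedSectionVars false

namespace CfsgLib.SC6

open Subgroup Cfsg CfsgLib.LAE CfsgLib.Gam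
open scoped commutatorElement MatrixGroups

variable {G : Type*} [Group G] [Finite G] {A B D E L N R T V W X Y : Subgroup G} {z u s w σ : G}

theorem idx2_exists (h2 : A.relIndex B = 2) : ∃ b ∈ B, b ∉ A := by
  by_contra! e
  have := relIndex_eq_one.2 e
  omega

theorem idx2_le (h2 : A.relIndex B = 2) {b : G} (hb : b ∈ B) (hb' : b ∉ A) (h1 : A ≤ Y)
    (h3 : b ∈ Y) : B ≤ Y := fun t ht => by
  by_cases e : t ∈ A
  · exact h1 e
  · simpa using mul_mem (h1 ((idx2_mul h2 ht (inv_mem hb)).2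
      (iff_of_false e (mt inv_mem_iff.1 hb')))) h3

theorem card_le_sq (hE : E ≤ omegaZ 2 E) (hB : B ≤ normalizer (E : Set G))
    (h2 : A.relIndex B = 2) (hA : A ≤ centralizer (E : Set G)) :
    Nat.card E ≤ Nat.card (E ⊓ centralizer (B : Set G) : Subgroup G) ^ 2 := by
  obtain ⟨b, hb, hb'⟩ := idx2_exists h2
  have e : E ⊓ centralizer {b} ≤ E ⊓ centralizer (B : Set G) := fun x hx =>
    ⟨hx.1, fun t ht => mc.1 (idx2_le h2 hb hb' (Y := centralizer {x})
      (fun a ha => mc.2 (hA ha x hx.1).symm) (mc.2 (mc.1 hx.2).symm) ht)⟩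
  have := card_le_mul_centralizer (H := E) (Z := E ⊓ centralizer {b}) b fun q hq => by
    have h1 := conj_mem_of_mem_normalizer (hB hb) hq
    have qi : q⁻¹ = q := inv_eq_of_mul_eq_one_right (pow_two q ▸ (mem_omegaZ.1 (hE hq)).2.2)
    rw [show ⁅q, b⁆ = q * (b * q * b⁻¹) by rw [commutatorElement_def, qi]; group]
    refine ⟨mul_mem hq h1, mc.2 (cj.1 ?_).symm⟩
    rw [cm, ← cj2, cj.2 (hA ((idx2_mul h2 hb hb).2 Iff.rfl) q hq).symm]
    exact (mem_omegaZ.1 (hE hq)).2.1 _ h1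
  have e1 := card_le_of_le e
  nlinarith

theorem pow_mod3 {k b : ℕ} (h : 2 ^ k % 3 = 2) (hb : 2 ^ k ≤ 2 ^ (2 * b + 2)) :
    2 ^ k ≤ 2 ^ (2 * b + 1) := by
  rcases (Nat.pow_le_pow_iff_right (by norm_num)).1 hb |>.eq_or_lt with rfl | e
  · rw [show 2 * b + 2 = 2 * (b + 1) by ring, pow_mul, Nat.pow_mod] at h
    simp at h
  · exact Nat.pow_le_pow_right (by norm_num) (by omega)

/-- the elements centralizing `z`, and `a` modulo `z` -/
def cmS (z a : G) : Subgroup G where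
  carrier := {t | Commute t z ∧ ⁅t, a⁆ ∈ zpowers z}
  one_mem' := ⟨Commute.one_left z, by simp⟩
  mul_mem' {s t} hs ht := ⟨hs.1.mul_left ht.1, by
    obtain ⟨k, hk⟩ := ht.2
    rw [show ⁅s * t, a⁆ = s * ⁅t, a⁆ * s⁻¹ * ⁅s, a⁆ by simp [commutatorElement_def, mul_assoc],
      ← hk, cj.2 (hs.1.zpow_right k)]
    exact mul_mem (zpow_mem (mem_zpowers z) k) hs.2⟩
  inv_mem' {t} ht := ⟨ht.1.inv_left, by
    obtain ⟨k, hk⟩ := inv_mem ht.2
    rw [show ⁅t⁻¹, a⁆ = t⁻¹ * ⁅t, a⁆⁻¹ * t⁻¹⁻¹ by simp [commutatorElement_def, mul_assoc],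
      ← hk, cj.2 (ht.1.inv_left.zpow_right k)]
    exact zpow_mem (mem_zpowers z) k⟩

theorem Hyp.cm_iff (h : Hyp z u) {t a : G} (ha : Commute a z) :
    (t * a * t⁻¹ = a ∨ t * a * t⁻¹ = a * z) ↔ ⁅t, a⁆ ∈ zpowers z := by
  rw [h.mem_z, commutatorElement_def, mul_inv_eq_one, mul_inv_eq_iff_eq_mul (c := z), ha.eq]

theorem Hyp.tri' (h : Hyp z u) (hR : IsPGroup 2 R) (hu : u ∈ normalizer (R : Set G))
    (hz : ∀ t ∈ R, Commute t z) {a : G} (ha : a ∈ R) :
    a * (u * a * u⁻¹) * (u * (u * a * u⁻¹) * u⁻¹) ∈ zpowers z := by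
  have := Fact.mk Nat.prime_three
  have h1 := conj_mem_of_mem_normalizer hu ha
  have h2 := mul_mem (mul_mem ha h1) (conj_mem_of_mem_normalizer hu h1)
  have e : a * (u * a * u⁻¹) * (u * (u * a * u⁻¹) * u⁻¹) = (a * u) ^ 3 := by
    rw [← mul_one (_ * _), ← h.uuu]; simp [pow_succ, mul_assoc]
  rw [e] at h2 ⊢
  obtain ⟨k, hk⟩ := two_pow_of_mem hR h2
  have cz : Commute (a * u) z := (hz a ha).mul_left h.comm.symm
  exact (h.conj3z (cz.pow_left (2 ^ k)) (orderOf_eq_prime (by rw [← pow_mul, mul_comm, pow_mul, hk])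
    fun e1 => not_mem_of_three hR h.ou ((Subgroup.mul_mem_cancel_left _ ha).1
      (mem_of_pow_mem_of_pow_mem (a := 3) (b := 2 ^ k) (Nat.Coprime.pow_right _ (by norm_num)) h2
        (e1 ▸ one_mem _))))).two (cz.pow_left 3) ((Commute.refl _).pow_pow _ _) ⟨k, hk⟩

/-- `σ ∈ T` inverts `u`, which normalizes the subgroup `R` of index two in `T` -/
structure C2 (z u σ : G) (R T : Subgroup G) : Prop extends Cf z u T where
  le : R ≤ T
  zR : z ∈ R
  nu : u ∈ normalizer (R : Set G)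
  i2 : R.relIndex T = 2
  σT : σ ∈ T
  inv : σ * u * σ⁻¹ = u⁻¹

namespace C2

variable (h : C2 z u σ R T)
include h

theorem σR : σ ∉ R := fun e => not_mem_of_three (h.pg.to_le h.le) h.ou (by
  have := mul_mem e (conj_mem_of_mem_normalizer h.nu (inv_mem e))
  rwa [← mul_assoc, ← mul_assoc, h.inv, ← mul_inv_rev, ← h.u_inv, inv_inv] at this)

theorem rr : RR z u R T := ⟨h.le, h.zR, idx2_norm h.le h.i2, h.nu, fun t ht => by
  by_cases e : t ∈ R
  · exact ⟨t, e, 1, one_mem _, by simp, Or.inl (by simp)⟩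
  · exact ⟨t * σ⁻¹, (idx2_mul h.i2 ht (inv_mem h.σT)).2 (iff_of_false e (mt inv_mem_iff.1 h.σR)),
      σ, h.σT, by simp, Or.inr h.inv⟩⟩

theorem pR : IsPGroup 2 R := h.pg.to_le h.le

theorem cR : Nat.card R % 3 = 2 := h.cardR h.rr

theorem cT : Nat.card T = Nat.card R * 2 := by rw [← card_rel h.le, h.i2]

theorem loc : SLoc (T ⊔ zpowers u) T ∧ pCoreOf 2 (T ⊔ zpowers u) = R :=
  build h.pg h.le h.i2 h.ou h.nu h.σT h.σR (by rw [h.inv]; simp)

theorem P_le : T ⊔ zpowers u ≤ centralizer {z} :=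
  sup_le (fun t ht => mc.2 (h.cz t ht)) (zpowers_le.2 (mc.2 h.comm.symm))

theorem charP (hR : ¬ R ≤ zpowers z) : IsCharP 2 (T ⊔ zpowers u) := by
  have := Fact.mk Nat.prime_two
  refine isCharP_of_isPGroup_centralizer ?_
  rw [h.loc.2]
  obtain ⟨k, hk⟩ := h.pg.exists_card_eq
  have e := card_dvd_of_le (inf_le_left : (T ⊔ zpowers u) ⊓ centralizer (R : Set G) ≤ _)
  rw [← card_rel h.loc.1.syl.le, h.loc.1.idx3, hk] at e
  refine IsPGroup.of_card_dvd_pow (n := k) (Nat.Coprime.dvd_of_dvd_mul_right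
    ((Nat.Prime.coprime_iff_not_dvd Nat.prime_three).2 fun e1 => ?_).symm e)
  obtain ⟨c, hc, oc⟩ := exists_order Nat.prime_three e1
  exact hR fun a ha => (h.conj3z (mc.1 (h.P_le hc.1)) oc).mem_fix h.pR h.zR ha (hc.2 a ha)

theorem zV : z ∈ omegaZ 2 R :=
  mem_omegaZ.2 ⟨h.zR, fun t ht => h.cz t (h.le ht), by rw [pow_two, h.zz]⟩

theorem z_not : z ∉ ⁅omegaZ 2 R, T⁆ := fun e => by
  have := Fact.mk Nat.prime_two
  have := (elemAb_omegaZ (p := 2) R).1
  have hV := h.pR.to_le (omegaZ_le (p := 2) R)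
  have hU := zpowers_le.2 (normalizer_le_normalizer_omegaZ (p := 2) R h.nu)
  obtain ⟨h1, h2⟩ := Coprime.fitting_decomposition hU
    (Coprime.coprime_card_of_isPGroup hV (by rw [h.card_u]; norm_num))
  rw [zpowers_eq_closure, centralizer_closure, ← zpowers_eq_closure, h.fix hV h.zV] at h1 h2
  have hB := commutator_le_left_of_le_normalizer hU
  have nB : T ≤ normalizer ((⁅omegaZ 2 R, zpowers u⁆ : Subgroup G) : Set G) :=
    idx2_le h.i2 h.σT h.σR (((le_centralizer_omegaZ R).trans (centralizer_anti hB)).trans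
      (centralizer_le_normalizer _)) (le_normalizer_commutator
        (le_normalizer_omegaZ_of_le (zpowers_le.2 (h.rr.nT h.σT))) (zpowers_le.2
          (mem_normalizer_of_conjS_le (by
            rw [conjS_def, MonoidHom.map_zpowers]
            exact zpowers_le.2 (by simp [h.inv])))) (mem_zpowers σ))
  have : ⁅omegaZ 2 R, T⁆ ≤ ⁅omegaZ 2 R, zpowers u⁆ := by
    nth_rw 1 [← h2]
    refine commutator_sup_le ((zpowers_le.2 h.zT).trans nB) le_normalizer ?_
      (commutator_le_left_of_le_normalizer nB)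
    rw [commutator_eq_bot_iff_le_centralizer.2 (zpowers_le.2 h.zc)]
    exact bot_le
  exact h.z_ne (mem_bot.1 (h1 ▸ ⟨mem_zpowers z, this e⟩))

theorem comm_ne (hV : ¬ omegaZ 2 R ≤ zpowers z) : ⁅omegaZ 2 R, T⁆ ≠ ⊥ := fun e => hV fun v hv => by
  have h1 : σ ∈ centralizer ((omegaZ 2 R : Subgroup G) : Set G) :=
    le_centralizer_iff.1 (commutator_eq_bot_iff_le_centralizer.1 e) h.σT
  have h2 := mul_mem h1 (conj_mem_of_mem_normalizer (normalizer_le_normalizer_centralizer _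
    (normalizer_le_normalizer_omegaZ R h.nu)) (inv_mem h1))
  rw [← mul_assoc, ← mul_assoc, h.inv, ← mul_inv_rev, ← h.u_inv, inv_inv] at h2
  exact h.mem_fix (h.pR.to_le (omegaZ_le R)) h.zV hv (h2 v hv)

theorem comm_le : ⁅omegaZ 2 R, T⁆ ≤ T :=
  commutator_le_right_of_le_normalizer (((omegaZ_le R).trans h.le).trans le_normalizer)

theorem om1 (k : K1 z T) : omegaZ 2 R ≤ zpowers z := by_contra fun e =>
  h.z_not (k.z_mem h.pg h.comm_le (h.comm_ne e)
    (le_normalizer_commutator (le_normalizer_omegaZ_of_le h.rr.nT) le_normalizer))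

theorem Q_le (hP : T ⊔ zpowers u ≤ L) : pCoreOf 2 L ≤ R :=
  h.loc.2 ▸ le_pCoreOf (isPGroup_pCoreOf L)
    ((h.syl.mono (le_sup_left.trans hP) le_top).pCoreOf_le.trans le_sup_left)
    (hP.trans (le_normalizer_pCoreOf L))

theorem dich (hP : T ⊔ zpowers u ≤ L) (hz : z ∈ omegaZ 2 (pCoreOf 2 L)) :
    pCoreOf 2 L = R ∨ Quo L (omegaZ 2 (pCoreOf 2 L)) PSL(2, ZMod 7) := by
  have hu := hP (mem_sup_right (mem_zpowers u))
  have hQ := h.Q_le hP
  refine (h.ft' ((isPGroup_pCoreOf L).to_le (omegaZ_le _)) hz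
    (h.syl.mono (le_sup_left.trans hP) le_top) (((omegaZ_le _).trans hQ).trans h.le)
    (le_normalizer_omegaZ_of_le (le_normalizer_pCoreOf L)) hu).imp_left fun e => ?_
  have e1 := h.card_mod (isPGroup_pCoreOf L) (omegaZ_le _ hz) (le_normalizer_pCoreOf L hu)
  have e2 := card_rel (hQ.trans h.le)
  have e3 := h.cR
  have e4 := h.cT
  have := Nat.le_of_dvd (by norm_num) e
  refine eq_of_le_of_card_ge hQ ?_
  interval_cases (pCoreOf 2 L).relIndex T <;> omega

theorem V_ne (h1 : Y ≤ T) (h2 : Y ≠ ⊥) :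
    omegaZ 2 (pCoreOf 2 (normalizer (Y : Set G))) ≠ ⊥ :=
  have := Fact.mk Nat.prime_two
  omegaZ_ne_bot (isPGroup_pCoreOf _) fun e =>
    h2 (eq_bot_iff.2 (e ▸ le_pCoreOf (h.pg.to_le h1) le_normalizer le_rfl))

theorem k1 (hR : ¬ R ≤ zpowers z) : K1 z T := fun v hv hc ov => by
  have := Fact.mk Nat.prime_two
  obtain ⟨Y, h1, h2, h3, h4⟩ := ste h.syl h.loc.1 (h.charP hR)
  have hQ := (h.Q_le h4).trans h.le
  have nQ := h3.trans (le_normalizer_pCoreOf (p := 2) _)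
  rcases h.dich h4 (h.z_mem ((omegaZ_le _).trans hQ) (h.V_ne h1 h2)
    (le_normalizer_omegaZ_of_le nQ)) with e | ⟨φ, hs, hk⟩
  · rw [e] at nQ
    by_contra e1
    refine h.z_not (h.z_mem h.comm_le (h.comm_ne fun e2 => ?_)
      (le_normalizer_commutator (le_normalizer_omegaZ_of_le nQ) le_rfl))
    have := (h.charP hR).omegaZ_le le_sup_left h.loc.1.Q_le
      (mem_omegaZ.2 ⟨hv, hc, ov ▸ pow_orderOf_eq_one v⟩)
    rw [h.loc.2] at this
    rcases h.mem_z.1 (e2 this) with rfl | e3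
    · simp at ov
    · exact e1 e3
  · have := simple7
    obtain ⟨n, hn, rfl⟩ := burn h.syl h.zc hc (h.one _ _ h.oz ov)
    have hS := ((h.syl.mono (le_normalizer.trans h3) le_top).subgroupOf le_rfl).map φ
    rw [subgroupOf_self, map_top_of_surjective φ hs] at hS
    obtain ⟨S, hS⟩ := hS.exists_sylow_top
    have e := map_le_normalizer_map φ (A := zpowers ⟨n, h3 hn⟩)
      (B := T.subgroupOf (normalizer (Y : Set G))) (zpowers_le.2 (mem_normalizer_of_conjS_le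
        (conjS_le_iff_forall.2 fun t ht =>
          mem_subgroupOf.2 (conj_mem_of_mem_normalizer hn (mem_subgroupOf.1 ht)))))
      (mem_map_of_mem φ (mem_zpowers _))
    rw [← hS, PSL2Rec.O168.norm_eq card7, hS, ← mem_comap, comap_map_eq, hk,
      sup_eq_left.2 (subgroupOf_mono _ ((omegaZ_le _).trans hQ))] at e
    exact cj.2 (h.cz n e)

theorem not_mem (k : K1 z T) (hR : s ∈ R) (hs : SS z s T) : s ∉ centralizer (R : Set G) := fun e =>
  hs.nz (h.om1 k (mem_omegaZ.2 ⟨hR, e, by rw [pow_two, hs.sq]⟩))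

theorem card_le (hR : s ∈ R) (hs : SS z s T) : Nat.card R ≤ 32 := by
  have := Fact.mk Nat.prime_two
  have k := h.k1 fun e => hs.nz (e hR)
  obtain ⟨n, hn⟩ := h.pR.exists_card_eq
  have e3 := h.cR
  have e4 := h.cT
  suffices Nat.card R ≤ 64 by rw [hn] at this e3 ⊢; exact pow_mod3 (b := 2) e3 this
  obtain ⟨X, c, h1, h2, -, h4, -, h6⟩ := h.exists_X k hs
  by_cases hc : ∀ N ≤ T, T ⊔ zpowers u ≤ normalizer (N : Set G) → X ≤ normalizer (N : Set G) → N = ⊥
  · have := gold h.loc.1 h1 (le_antisymm (fun g hg => by_contra fun e =>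
      h6 (mc.1 (h1.le_of_max hg.2 e (le_sup_left.trans h.P_le) (h.P_le hg.1) h4)))
      (le_inf le_sup_left h1.syl.le)) hc
    omega
  push Not at hc
  obtain ⟨Y, y1, y2, y3, y4⟩ := hc
  have hQ := h.Q_le y2
  have nQ := le_normalizer_pCoreOf (p := 2) (normalizer (Y : Set G))
  have hT := le_sup_left.trans y2
  have ne : pCoreOf 2 (normalizer (Y : Set G)) ≠ R := fun e => h.not_mem k hR hs fun t ht => by
    have := le_pCoreOf (isPGroup_pCoreOf _) ((hQ.trans h.le).trans h1.syl.le) (y3.trans nQ)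
    rw [e, h2] at this
    exact mc.1 (this ht).2
  have zV := k.z_mem h.pg (((omegaZ_le _).trans hQ).trans h.le) (h.V_ne y1 y4)
    (le_normalizer_omegaZ_of_le (hT.trans nQ))
  have q := (h.dich y2 zV).resolve_left ne
  have := simple7
  have hE := q.le_of_simple (by rw [card7]; norm_num) (isPGroup_pCoreOf _) (pCoreOf_le _) nQ
  rw [le_antisymm (omegaZ_le _) hE] at q zV
  have e5 := h.card_mod (isPGroup_pCoreOf _) zV (nQ (y2 (mem_sup_right (mem_zpowers u))))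
  have e6 := relIndex_dvd nQ hT
  have nR := (h.le.trans hT).trans nQ
  generalize pCoreOf 2 (normalizer (Y : Set G)) = Q at *
  obtain ⟨m, hm⟩ := relIndex_pow (N := Q) h.pg
  rw [q.relIndex, card7, hm] at e6
  have e7 := Nat.le_of_dvd (by norm_num) (pow_dvd_of_odd (a := 8) (b := 21) e6 (by decide))
  have e8 := relIndex_mul_relIndex _ _ _ hQ h.le
  have e9 := card_rel hQ
  rw [h.i2, hm] at e8
  have i4 : Q.relIndex R = 4 := by
    have i1 : Q.relIndex R ≠ 1 := fun e => ne (le_antisymm hQ (relIndex_eq_one.1 e))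
    have : Q.relIndex R ≤ 4 := by omega
    interval_cases Q.relIndex R <;> omega
  obtain ⟨a, ha, a1, a2⟩ : ∃ a ∈ R, a ∉ Q ∧ a * a ∈ Q := by
    obtain ⟨a, ha, a1⟩ := SetLike.exists_of_lt (lt_of_le_of_ne hQ ne)
    by_cases e : a * a ∈ Q
    · exact ⟨a, ha, a1, e⟩
    · have := normal_subgroupOf_of_le nR
      have e1 : a ^ Q.relIndex R ∈ Q := pow_index_mem (Q.subgroupOf R) ⟨a, ha⟩
      exact ⟨a * a, mul_mem ha ha, e, by rw [i4] at e1; simpa [pow_succ, mul_assoc] using e1⟩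
  have j1 := TwoGrp.relIndex_sup_zpowers (nR ha) a2 a1
  have l1 : Q ⊔ zpowers a ≤ R := sup_le hQ (zpowers_le.2 ha)
  have j2 := relIndex_mul_relIndex _ _ _ (le_sup_left : Q ≤ Q ⊔ zpowers a) l1
  rw [j1, i4] at j2
  have j3 : (Q ⊔ zpowers a).relIndex R = 2 := by omega
  have c1 := card_le_sq hE (l1.trans nR) j1 (hE.trans (omegaZ_le_centralizer Q))
  have c2 := card_le_sq (E := Q ⊓ centralizer ((Q ⊔ zpowers a : Subgroup G) : Set G))
    (fun x hx => mem_omegaZ.2 ⟨hx, fun t ht => (mem_omegaZ.1 (hE hx.1)).2.1 t ht.1,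
      (mem_omegaZ.1 (hE hx.1)).2.2⟩)
    (le_normalizer_inf nR (le_normalizer_centralizer (idx2_norm l1 j3))) j3
    (le_centralizer_iff.1 inf_le_right)
  have c3 := card_le_of_le (show Q ⊓ centralizer ((Q ⊔ zpowers a : Subgroup G) : Set G) ⊓
      centralizer (R : Set G) ≤ zpowers z from fun x hx =>
    h.om1 k (mem_omegaZ.2 ⟨hQ hx.1.1, hx.2, (mem_omegaZ.1 (hE hx.1.1)).2.2⟩))
  rw [h.card_z] at c3
  rw [i4] at e9
  have c4 := c2.trans (Nat.pow_le_pow_left c3 2)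
  have c5 := c1.trans (Nat.pow_le_pow_left c4 2)
  omega

theorem exists_W (hR : s ∈ R) (hs : SS z s T) : ∃ W ≤ R, z ∈ W ∧ s ∈ W ∧ W ≤ omegaZ 2 W ∧
    Nat.card W = 8 ∧ T ≤ normalizer (W : Set G) ∧ u ∈ normalizer (W : Set G) ∧
    ∀ w ∈ W, ∀ a ∈ R, ⁅w, a⁆ ∈ zpowers z := by
  have := Fact.mk Nat.prime_two
  have cz : ∀ t ∈ R, Commute t z := fun t ht => h.cz t (h.le ht)
  have c0 : Cm z R s := Cm.mono hs.cm h.le
  have c1 := c0.conj h.nu h.comm.symm
  have m1 := conj_mem_of_mem_normalizer h.nu hR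
  have m2 := conj_mem_of_mem_normalizer h.nu m1
  have s1 : u * s * u⁻¹ * (u * s * u⁻¹) = 1 := by rw [← cm, hs.sq]; simp
  have s2 : u * (u * s * u⁻¹) * u⁻¹ * (u * (u * s * u⁻¹) * u⁻¹) = 1 := by rw [← cm, s1]; simp
  have cc : Commute s (u * s * u⁻¹) := by
    have e : (s * (u * s * u⁻¹)) ^ 2 = 1 := by
      rcases h.mem_z.1 (h.tri h.rr hR c0) with e | e <;> rw [eq_mul_inv_of_mul_eq e]
      · rw [one_mul, inv_pow, pow_two, s2, inv_one]
      · rw [(cz _ m2).symm.inv_right.mul_pow, inv_pow, pow_two, pow_two, s2, h.zz]; simp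
    rw [pow_two] at e
    have := eq_inv_of_mul_eq_one_left e
    rwa [mul_inv_rev, inv_eq_of_mul_eq_one_right s1, inv_eq_of_mul_eq_one_right hs.sq] at this
  set W := zpowers z ⊔ zpowers s ⊔ zpowers (u * s * u⁻¹)
  have le : ∀ {K : Subgroup G}, z ∈ K → s ∈ K → u * s * u⁻¹ ∈ K → W ≤ K := fun h1 h2 h3 =>
    sup_le (sup_le (zpowers_le.2 h1) (zpowers_le.2 h2)) (zpowers_le.2 h3)
  have w0 : z ∈ W := mem_sup_left (mem_sup_left (mem_zpowers _))
  have w1 : s ∈ W := mem_sup_left (mem_sup_right (mem_zpowers _))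
  have w2 : u * s * u⁻¹ ∈ W := mem_sup_right (mem_zpowers _)
  have WR := le h.zR hR m1
  have nW : ∀ g, g * z * g⁻¹ ∈ W → g * s * g⁻¹ ∈ W → g * (u * s * u⁻¹) * g⁻¹ ∈ W →
      g ∈ normalizer (W : Set G) := fun g h1 h2 h3 => mem_normalizer_of_conjS_le
    (conjS_le_iff.2 (le (mem_conjS.2 (by simpa using h1)) (mem_conjS.2 (by simpa using h2))
      (mem_conjS.2 (by simpa using h3))))
  have nu := nW u (by rw [cj.2 h.comm.symm]; exact w0) w2 (h.third h.rr hR c0 w0 w1 w2)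
  have hE : W ≤ omegaZ 2 W := le
    (mem_omegaZ.2 ⟨w0, fun t ht => cz t (WR ht), by rw [pow_two, h.zz]⟩)
    (mem_omegaZ.2 ⟨w1, fun t ht => mc.1 (le (mc.2 (cz s hR).symm) (mc.2 (Commute.refl _))
      (mc.2 cc.symm) ht), by rw [pow_two, hs.sq]⟩)
    (mem_omegaZ.2 ⟨w2, fun t ht => mc.1 (le (mc.2 (cz _ m1).symm) (mc.2 cc)
      (mc.2 (Commute.refl _)) ht), by rw [pow_two, s1]⟩)
  refine ⟨W, WR, w0, w1, hE, ?_, fun t ht => nW t (by rw [cj.2 (h.cz t ht)]; exact w0)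
    (Cm.mem hs.cm w0 w1 ht) (h.conj_W h.rr hR hs.cm w0 w1 w2 ht), nu, fun w hw a ha => ?_⟩
  · have n : ∀ A ≤ W, ∀ B ≤ W, Nat.card (A ⊔ B : Subgroup G) ∣ Nat.card A * Nat.card B :=
      fun A hA B hB => Coprime.card_sup_dvd_of_le_normalizer ((((hB.trans hE).trans
        (omegaZ_le_centralizer W)).trans (centralizer_anti hA)).trans (centralizer_le_normalizer _))
    have e1 := n _ le_sup_left _ le_sup_right
    have e2 := n _ (zpowers_le.2 w0) _ (zpowers_le.2 w1)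
    rw [h.card_z, Nat.card_zpowers, hs.ord] at e2
    rw [Nat.card_zpowers, show orderOf (u * s * u⁻¹) = 2 from
      (orderOf_injective (MulAut.conj u).toMonoidHom (MulEquiv.injective _) s).trans hs.ord] at e1
    have e3 : Nat.card W ∣ 8 := e1.trans (mul_dvd_mul_right e2 2)
    have e4 := h.card_mod (h.pR.to_le WR) w0 nu
    have e5 : Nat.card W ≠ 2 := fun e => hs.nz ((eq_of_le_of_card_ge (zpowers_le.2 w0)
      (by rw [e, h.card_z])).ge w1)
    have := Nat.le_of_dvd (by norm_num) e3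
    interval_cases Nat.card W <;> omega
  · have k : ∀ b ∈ R, Cm z R b → b ∈ cmS z a := fun b hb c => ⟨cz b hb, by
      simpa using inv_mem ((h.cm_iff (cz b hb)).1 (c a ha))⟩
    exact (le (k z h.zR fun t ht => Or.inl (cj.2 (cz t ht))) (k s hR c0) (k _ m1 c1) hw).2

theorem es (hR : s ∈ R) (hs : SS z s T) : IsExtraspecial 2 R ∧ Nat.card R = 32 := by
  have := Fact.mk Nat.prime_two
  have k := h.k1 fun e => hs.nz (e hR)
  have cz : ∀ t ∈ R, Commute t z := fun t ht => h.cz t (h.le ht)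
  obtain ⟨W, w1, w2, w3, w4, w5, -, w7, w8⟩ := h.exists_W hR hs
  have c32 := h.card_le hR hs
  have big : ∀ K ≤ R, W ≤ K → u ∈ normalizer (K : Set G) → K ≠ W → Nat.card K = 32 :=
    fun K h1 h2 h3 h4 => by
      have e1 := h.card_mod (h.pR.to_le h1) (h2 w2) h3
      have e2 := (card_le_of_le h1).trans c32
      have e3 : 8 < Nat.card K := lt_of_not_ge fun e =>
        h4 (eq_of_le_of_card_ge h2 (w5 ▸ e)).symm
      obtain ⟨n, hn⟩ := (h.pR.to_le h1).exists_card_eq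
      rw [hn] at e1 e2 e3 ⊢
      have : n ≤ 5 := (Nat.pow_le_pow_iff_right (by norm_num)).1 e2
      interval_cases n <;> omega
  have cR := big R le_rfl w1 h.nu fun e => h.not_mem k hR hs (e ▸ (mem_omegaZ.1 (w4 w3)).2.1)
  refine ⟨FiLoc.extraspecial_of h.pR h.card_z (le_antisymm (by_contra fun e => ?_)
    (zpowers_le.2 ⟨h.zR, cz⟩)) (commutator_le.2 fun t ht a ha => ?_) (by omega), cR⟩
  · obtain ⟨d, hd, h1, h2, h3⟩ := h.exists_cm (inf_le_left.trans h.le)
      (le_normalizer_inf h.rr.nT (le_normalizer_centralizer h.rr.nT)) e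
    have hd' := conj_mem_of_mem_normalizer (le_normalizer_inf (zpowers_le.2 h.nu)
      (le_normalizer_centralizer (zpowers_le.2 h.nu)) (mem_zpowers u)) hd
    have om : ∀ x ∈ R ⊓ centralizer (R : Set G), x * x = 1 → x ∈ zpowers z := fun x hx e =>
      h.om1 k (mem_omegaZ.2 ⟨hx.1, hx.2, by rw [pow_two, e]⟩)
    have d2 := h2.resolve_left fun e => h1 (om d hd e)
    have e1 := (Subgroup.mul_mem_cancel_left _ (om _ (mul_mem hd hd') (by
      rw [← pow_two, (Commute.mul_pow (hd'.2 d hd.1)), pow_two, pow_two, ← cm, d2,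
        cj.2 h.comm.symm, h.zz]))).1 (h.tri h.rr hd.1 (h3.mono h.le))
    have := conj_mem_of_mem_normalizer (h.norm_z h.comm.symm) e1
    rw [h.u_conj3] at this
    exact h1 this
  by_cases hw : a ∈ W
  · simpa using inv_mem (w8 a hw t ht)
  have m1 := conj_mem_of_mem_normalizer h.nu ha
  have m2 := conj_mem_of_mem_normalizer h.nu m1
  have t1 := h.tri' h.pR h.nu cz ha
  have t2 := h.toHyp.inv.tri' h.pR (inv_mem h.nu) cz ha
  rw [show u⁻¹ * a * u⁻¹⁻¹ = u * (u * a * u⁻¹) * u⁻¹ by rw [← cj2, ← h.u_inv],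
    show u⁻¹ * (u * (u * a * u⁻¹) * u⁻¹) * u⁻¹⁻¹ = u * a * u⁻¹ by group] at t2
  set K := W ⊔ zpowers a ⊔ zpowers (u * a * u⁻¹)
  have le : ∀ {J : Subgroup G}, W ≤ J → a ∈ J → u * a * u⁻¹ ∈ J → K ≤ J := fun h1 h2 h3 =>
    sup_le (sup_le h1 (zpowers_le.2 h2)) (zpowers_le.2 h3)
  have k0 : W ≤ K := le_sup_left.trans le_sup_left
  have k1 : a ∈ K := mem_sup_left (mem_sup_right (mem_zpowers _))
  have k2 : u * a * u⁻¹ ∈ K := mem_sup_right (mem_zpowers _)
  have KR := le w1 ha m1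
  have e := eq_of_le_of_card_ge KR (by
    rw [cR, big K KR k0 (mem_normalizer_of_conjS_le (conjS_le_iff.2 (le
      (le_conjS_iff.2 (by rw [inv_inv, mem_normalizer_iff_conjS.1 w7]; exact k0))
      (mem_conjS.2 (by simpa using k2)) (mem_conjS.2 (by
        simpa using (Subgroup.mul_mem_cancel_left _ (mul_mem k1 k2)).1
          (k0 (zpowers_le.2 w2 t1))))))) fun e => hw (e ▸ k1)])
  refine (le (J := cmS z a) (fun w hw => ⟨cz w (w1 hw), w8 w hw a ha⟩) ⟨cz a ha, by simp⟩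
    ⟨cz _ m1, ?_⟩ (e.ge ht)).2
  have := mul_mem (conj_mem_of_mem_normalizer (h.norm_z (cz _ m1)) t2) (inv_mem t1)
  generalize u * (u * a * u⁻¹) * u⁻¹ = b at this
  generalize u * a * u⁻¹ = c at this ⊢
  simpa [commutatorElement_def, mul_assoc] using this

end C2

end CfsgLib.SC6
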